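import Cfsg.Agent.Chars.Basic
import Mathlib.LinearAlgebra.Trace

/-!
# The character on the fixed points of a normalised subgroup
-/

set_option autoImplicit false

namespace CfsgLib.Blocks.OrderP

open Cfsg CfsgLib
open scoped ComplexConjugate

universe u

variable {G : Type u} [Group G] [Fintype G]

/-- The average over `P` of a character, on a subgroup `E` normalising `P`, is a character: it
belongs to the fixed points of `P`. -/
theorem isCharacter_average {χ : G → ℂ} (hχ : IsCharacter G χ) (P E : Subgroup G) [Fintype P]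
    (hnorm : ∀ x ∈ E, ∀ y ∈ P, x * y * x⁻¹ ∈ P) :
    IsCharacter E (fun x : E => (Nat.card P : ℂ)⁻¹ * ∑ y : P, χ ((x : G) * y)) := by
  classical
  obtain ⟨n, ρ, rfl⟩ := hχ
  let π : (Fin n → ℂ) →ₗ[ℂ] (Fin n → ℂ) := (Nat.card P : ℂ)⁻¹ • ∑ y : P, ρ (y : G)
  let W : Submodule ℂ (Fin n → ℂ) :=
    { carrier := {v | ∀ y ∈ P, ρ y v = v}
      add_mem' := fun {a b} ha hb y hy => by rw [map_add, ha y hy, hb y hy]
      zero_mem' := fun y _ => map_zero _
      smul_mem' := fun c v hv y hy => by rw [map_smul, hv y hy] }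
  have hπmem : ∀ v, π v ∈ W := by
    intro v y hy
    simp only [π, LinearMap.smul_apply, LinearMap.sum_apply, map_smul, map_sum]
    congr 1
    refine Fintype.sum_equiv (Equiv.mulLeft (⟨y, hy⟩ : P)) _ _ fun z => ?_
    show ρ y (ρ (z : G) v) = ρ (y * (z : G)) v
    rw [map_mul]
    rfl
  have hπW : ∀ v ∈ W, π v = v := by
    intro v hv
    simp only [π, LinearMap.smul_apply, LinearMap.sum_apply]
    rw [Finset.sum_congr rfl fun (y : P) _ => hv y y.2, Finset.sum_const, Finset.card_univ,
      ← Nat.card_eq_fintype_card, ← Nat.cast_smul_eq_nsmul ℂ, smul_smul,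
      inv_mul_cancel₀ (Nat.cast_ne_zero.2 Nat.card_pos.ne'), one_smul]
  have hstab : ∀ x : E, ∀ v ∈ W, ρ (x : G) v ∈ W := by
    intro x v hv y hy
    have h1 : (x : G)⁻¹ * y * (x : G) ∈ P := by
      have := hnorm _ (inv_mem x.2) y hy
      rwa [inv_inv] at this
    have h2 := hv _ h1
    calc ρ y (ρ (x : G) v) = (ρ y * ρ (x : G)) v := rfl
      _ = ρ ((x : G) * ((x : G)⁻¹ * y * (x : G))) v := by
          rw [← map_mul]; congr 2; group
      _ = ρ (x : G) (ρ ((x : G)⁻¹ * y * (x : G)) v) := by rw [map_mul]; rfl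
      _ = ρ (x : G) v := by rw [h2]
  let σ : Representation ℂ E W :=
    { toFun := fun x => (ρ (x : G)).restrict (hstab x)
      map_one' := by ext v; simp [LinearMap.restrict_apply]
      map_mul' := fun a b => by ext v; simp [LinearMap.restrict_apply] }
  let q : (Fin n → ℂ) →ₗ[ℂ] W := π.codRestrict W hπmem
  have key : (fun x : E => (Nat.card P : ℂ)⁻¹ * ∑ y : P, ρ.character ((x : G) * y)) =
      σ.character := by
    funext x
    have hσ : σ x = q ∘ₗ ((ρ (x : G)) ∘ₗ W.subtype) := by
      ext v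
      show ρ (x : G) (v : Fin n → ℂ) _ = π (ρ (x : G) (v : Fin n → ℂ)) _
      rw [hπW _ (hstab x v v.2)]
    show _ = LinearMap.trace ℂ W (σ x)
    rw [hσ, LinearMap.trace_comp_comm']
    have : ((ρ (x : G)) ∘ₗ W.subtype) ∘ₗ q = ρ (x : G) * π := by
      ext v
      rfl
    rw [this, mul_smul_comm, map_smul, smul_eq_mul]
    congr 1
    rw [Finset.mul_sum, map_sum]
    refine Finset.sum_congr rfl fun y _ => ?_
    show LinearMap.trace ℂ _ _ = LinearMap.trace ℂ _ _
    rw [map_mul]
  rw [key]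
  exact Chars.isCharacter_character σ

end CfsgLib.Blocks.OrderP
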