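import Cfsg.Agent.Blocks.OrderP.Principal
import Cfsg.Agent.Blocks.OrderP.Perfect.Fixed
import Cfsg.Agent.Constrained.HallHigman

/-!
# Perfect groups with a Sylow subgroup of order `p`: the setting
-/

set_option autoImplicit false
set_option linter.style.haveILetI false
set_option linter.unusedSectionVars false

namespace CfsgLib.Blocks.OrderP.Perfect

open Cfsg CfsgLib Finset
open scoped ComplexConjugate

universe u

/-- The exceptional form of the number of Sylow subgroups. -/
def CountForm (n p : ℕ) : Prop :=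
  ∃ h u : ℕ, 0 < h ∧ 0 < u ∧ n * (u + 1) = h * u * p + u ^ 2 + u + h

/-- In the exceptional form `n` is at least `(p + 3) / 2`. -/
theorem CountForm.le {n p : ℕ} (h : CountForm n p) : p + 3 ≤ 2 * n := by
  obtain ⟨h, u, hh, hu, e⟩ := h
  have h1 : u * p + u ^ 2 + u + 1 ≤ n * (u + 1) := by
    rw [e]
    have : u * p ≤ h * u * p := by
      rw [mul_assoc]; exact Nat.le_mul_of_pos_left _ hh
    omega
  by_contra hlt
  push Not at hlt
  have h2 : 2 * n ≤ p + 2 := by omega
  nlinarith

/-- A divisor of `(p - 1)(1 + np)` congruent to `1` gives the exceptional form unless it is trivial. -/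
theorem eq_one_or_of_dvd {n p A : ℕ} (hp : 2 ≤ p) (hF : ¬ CountForm n p)
    (hA : (A : ZMod p) = 1) (hdvd : A ∣ (p - 1) * (1 + n * p)) : A = 1 ∨ A = 1 + n * p := by
  haveI : NeZero p := ⟨by omega⟩
  obtain ⟨v, hv⟩ := hdvd
  obtain ⟨q, rfl⟩ : ∃ q, p = q + 1 := ⟨p - 1, by omega⟩
  rw [Nat.add_sub_cancel] at hv
  have hA' : A % (q + 1) = 1 := by
    have := congrArg ZMod.val hA
    rwa [ZMod.val_natCast, ZMod.val_one'' (by omega)] at this
  have hv' : v % (q + 1) = q := by
    have h := congrArg (· % (q + 1)) hv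
    simp only [Nat.mul_mod A v, hA', one_mul, Nat.mod_mod, Nat.mul_mod q,
      Nat.add_mul_mod_self_right, Nat.one_mod_eq_one.2 (show q + 1 ≠ 1 by omega), mul_one] at h
    rw [← h]
    exact Nat.mod_eq_of_lt (by omega)
  set u := A / (q + 1)
  set w := v / (q + 1)
  have eA : A = (q + 1) * u + 1 := by
    conv_lhs => rw [← Nat.div_add_mod A (q + 1), hA']
  have ev : v = (q + 1) * w + q := by
    conv_lhs => rw [← Nat.div_add_mod v (q + 1), hv']
  clear_value u w
  subst eA ev
  rcases Nat.eq_zero_or_pos u with rfl | hu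
  · exact Or.inl rfl
  rcases Nat.eq_zero_or_pos w with rfl | hw
  · right
    rw [mul_zero, zero_add, mul_comm] at hv
    exact (Nat.eq_of_mul_eq_mul_right (m := q) (by omega) (by linarith)).symm
  exfalso
  apply hF
  have e : q * n = u * w * (q + 1) + w + q * u := by
    have h1 : (q + 1) * (q * n) = (q + 1) * (u * w * (q + 1) + w + q * u) := by linarith
    exact Nat.eq_of_mul_eq_mul_left (by omega) h1
  have hdvd : q ∣ w * (u + 1) := by
    have h1 : q ∣ q * (u * w + u) + w * (u + 1) := ⟨n, by linarith⟩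
    exact (Nat.dvd_add_right (dvd_mul_right q _)).1 h1
  obtain ⟨h, hh⟩ := hdvd
  have hpos : 0 < w * (u + 1) := Nat.mul_pos hw (by omega)
  have hh0 : 0 < h := Nat.pos_of_ne_zero fun h0 => by rw [h0, mul_zero] at hh; omega
  refine ⟨h, u, hh0, hu, ?_⟩
  have hq : 0 < q := by omega
  refine Nat.eq_of_mul_eq_mul_left hq ?_
  calc q * (n * (u + 1)) = (q * n) * (u + 1) := by ring
    _ = u * (w * (u + 1)) * (q + 1) + w * (u + 1) + q * u * (u + 1) := by rw [e]; ring
    _ = _ := by rw [hh]; ring

variable {p : ℕ} [hp : Fact p.Prime] {G : Type u} [Group G] [Fintype G] {u₀ : G} {n e : ℕ}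

/-- A perfect group, a generator of a Sylow subgroup of order `p`, the number `1 + np` of Sylow
subgroups and the order `e` of the automiser. -/
structure Setup (p : ℕ) (n e : ℕ) (u₀ : G) : Prop where
  hu : orderOf u₀ = p
  hidx : ¬ p ∣ (Subgroup.zpowers u₀).index
  perfect : commutator G = ⊤
  hn : (Subgroup.normalizer (Subgroup.zpowers u₀ : Set G)).index = 1 + n * p
  he : (Subgroup.centralizer (Subgroup.zpowers u₀ : Set G)).relIndex
      (Subgroup.normalizer (Subgroup.zpowers u₀ : Set G)) = e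

namespace Setup

theorem dvd (S : Setup p n e u₀) : e ∣ p - 1 := (exists_local_data S.hu S.hidx S.he).1

theorem e_pos (S : Setup p n e u₀) : 0 < e := (exists_local_data S.hu S.hidx S.he).2.1

theorem two_le_e (S : Setup p n e u₀) : 2 ≤ e := by
  by_contra h
  have he1 : e = 1 := by have := S.e_pos; omega
  have hPgrp : IsPGroup p (Subgroup.zpowers u₀) :=
    IsPGroup.of_card (n := 1) (by rw [Nat.card_zpowers, S.hu, pow_one])
  let P : Sylow p G := hPgrp.toSylow S.hidx
  have hle : Subgroup.normalizer (P : Set G) ≤ Subgroup.centralizer (P : Set G) :=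
    Subgroup.relIndex_eq_one.1 (S.he.trans he1)
  obtain ⟨N, hN, hNc, k, hk⟩ := Transfer.hasNormalPComplement_iff_exists.1
    (Transfer.hasNormalPComplement_of_normalizer_le_centralizer P hle)
  haveI := hN
  have hQp : IsPGroup p (G ⧸ N) := IsPGroup.of_card (n := k) (by rw [← Subgroup.index_eq_card, hk])
  have htop : commutator (G ⧸ N) = ⊤ := by
    rw [← Subgroup.map_top_of_surjective _ (QuotientGroup.mk'_surjective N), ← S.perfect,
      commutator_def, commutator_def, Subgroup.map_commutator,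
      Subgroup.map_top_of_surjective _ (QuotientGroup.mk'_surjective N)]
  haveI : Group.IsNilpotent (G ⧸ N) := hQp.isNilpotent
  have hsub : Subsingleton (G ⧸ N) := by
    by_contra hne
    rw [not_subsingleton_iff_nontrivial] at hne
    exact (Group.IsSolvable.commutator_lt_top_of_nontrivial (G ⧸ N)).ne htop
  have hN1 : N.index = 1 := by rw [Subgroup.index_eq_card, Nat.card_eq_one_iff_unique]; exact ⟨hsub, inferInstance⟩
  rw [Subgroup.index_eq_one] at hN1
  have hpG : p ∣ Nat.card N := by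
    rw [hN1, Subgroup.card_top, ← S.hu]
    exact orderOf_dvd_natCard u₀
  exact hp.out.ne_one (Nat.Coprime.eq_one_of_dvd hNc.symm hpG)

theorem exists_t (S : Setup p n e u₀) : ∃ t, t * e = p - 1 ∧ 1 ≤ t ∧ (p - 1) / e = t := by
  obtain ⟨t, ht⟩ := S.dvd
  have := hp.out.two_le
  refine ⟨t, by rw [ht, mul_comm], ?_, by rw [ht, Nat.mul_div_cancel_left t S.e_pos]⟩
  rcases Nat.eq_zero_or_pos t with rfl | h
  · omega
  · exact h

theorem centralizer_upow (S : Setup p n e u₀) {i : ZMod p} (hi : i ≠ 0) :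
    Subgroup.centralizer ({upow u₀ i} : Set G) = Subgroup.centralizer ({u₀} : Set G) := by
  rw [← HeightZero.centralizer_zpowers_eq, zpowers_upow S.hu hi, HeightZero.centralizer_zpowers_eq]

theorem centralizer_index (S : Setup p n e u₀) :
    (Subgroup.centralizer ({u₀} : Set G)).index = e * (1 + n * p) := by
  rw [← HeightZero.centralizer_zpowers_eq, ← S.he, ← S.hn,
    Subgroup.relIndex_mul_index (Subgroup.centralizer_le_normalizer _)]

theorem not_normal (S : Setup p n e u₀) : ¬ (Subgroup.zpowers u₀).Normal := by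
  intro hN
  haveI := hN
  haveI hCn : (Subgroup.centralizer (Subgroup.zpowers u₀ : Set G)).Normal := inferInstance
  obtain ⟨ψ, -, hker⟩ := exists_normalizer_hom S.hu
  have htop : Subgroup.normalizer (Subgroup.zpowers u₀ : Set G) = ⊤ :=
    Subgroup.normalizer_eq_top_iff.2 hN
  let f : G →* (ZMod p)ˣ := ψ.comp
    ((MonoidHom.id G).codRestrict _ fun g => by rw [htop]; exact Subgroup.mem_top g)
  have hf : f.ker = ⊤ := by
    refine top_le_iff.1 (S.perfect ▸ Abelianization.commutator_subset_ker f)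
  have hle : Subgroup.normalizer (Subgroup.zpowers u₀ : Set G) ≤
      Subgroup.centralizer (Subgroup.zpowers u₀ : Set G) := by
    intro g hg
    have h1 : f g = 1 := MonoidHom.mem_ker.1 (hf ▸ Subgroup.mem_top g)
    have h2 : (⟨g, hg⟩ : Subgroup.normalizer (Subgroup.zpowers u₀ : Set G)) ∈ ψ.ker :=
      MonoidHom.mem_ker.2 h1
    rw [hker, Subgroup.mem_subgroupOf] at h2
    exact h2
  have h1 : e = 1 := by rw [← S.he, Subgroup.relIndex_eq_one]; exact hle
  exact absurd h1 (by have := S.two_le_e; omega)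

theorem n_pos (S : Setup p n e u₀) : 0 < n := by
  rcases Nat.eq_zero_or_pos n with rfl | h
  · have h1 := S.hn
    rw [zero_mul, add_zero, Subgroup.index_eq_one, Subgroup.normalizer_eq_top_iff] at h1
    exact absurd h1 S.not_normal
  · exact h

theorem eq_oneChar_of_deg_one (S : Setup p n e u₀) {χ : IrrCharacter G}
    (h : charDegree (χ : G → ℂ) = 1) : χ = Chars.oneChar G := by
  obtain ⟨l, rfl⟩ := Chars.exists_linChar_eq χ ((Chars.charDegree_eq_one_iff χ).1 h)
  rw [Chars.linChar_eq_oneChar_iff]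
  have h1 : l.ker = ⊤ := top_le_iff.1 (S.perfect ▸ Abelianization.commutator_subset_ker l)
  exact MonoidHom.ext fun g => MonoidHom.mem_ker.1 (h1 ▸ Subgroup.mem_top g)

/-- A sum of values at `u₀` equal to a sign, over characters of one degree. -/
theorem dvd_of_sum (S : Setup p n e u₀) (T : Finset (IrrCharacter G)) (f : ℕ)
    (hT : ∀ χ ∈ T, charDegree (χ : G → ℂ) = f) {c : ℤ} (hc : c = 1 ∨ c = -1)
    (hsum : ∑ χ ∈ T, (χ : G → ℂ) u₀ = (c : ℂ)) : f ∣ e * (1 + n * p) := by
  rw [← S.centralizer_index]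
  set I := (Subgroup.centralizer ({u₀} : Set G)).index
  rcases T.eq_empty_or_nonempty with rfl | ⟨χ₁, hχ₁⟩
  · rcases hc with rfl | rfl <;> simp at hsum
  have hf0 : f ≠ 0 := by rw [← hT χ₁ hχ₁]; exact (Chars.charDegree_pos χ₁).ne'
  refine Chars.dvd_of_isIntegral_div hf0 ?_
  have h : IsIntegral ℤ (∑ χ ∈ T, centralChar (χ : G → ℂ) u₀) :=
    IsIntegral.sum _ fun χ _ => Chars.isIntegral_centralChar χ u₀
  have e1 : ∑ χ ∈ T, centralChar (χ : G → ℂ) u₀ = (c : ℂ) * ((I : ℂ) / f) := by
    rw [← hsum, Finset.sum_mul]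
    refine Finset.sum_congr rfl fun χ hχ => ?_
    rw [centralChar, ← Chars.coe_charDegree, hT χ hχ]
    ring
  rw [e1] at h
  rcases hc with rfl | rfl
  · simpa using h
  · simpa using h.neg

end Setup

theorem sum_zpowers (hu : orderOf u₀ = p) {R : Type*} [AddCommMonoid R] (f : G → R) :
    ∑ y : Subgroup.zpowers u₀, f y = ∑ i : ZMod p, f (upow u₀ i) := by
  classical
  symm
  refine Fintype.sum_bijective (fun i => (⟨upow u₀ i, (mem_zpowers_iff_upow hu).2 ⟨i, rfl⟩⟩ :
    Subgroup.zpowers u₀)) ⟨fun a b h => upow_inj hu (congrArg Subtype.val h), fun x => ?_⟩ _ _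
    fun i => rfl
  obtain ⟨i, hi⟩ := (mem_zpowers_iff_upow hu).1 x.2
  exact ⟨i, Subtype.ext hi.symm⟩

end CfsgLib.Blocks.OrderP.Perfect
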