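import Cfsg.Agent.Blocks.OrderP.Perfect.Basic

/-!
# The degrees in the principal block
-/

set_option autoImplicit false
set_option linter.style.haveILetI false
set_option linter.unusedSectionVars false

namespace CfsgLib.Blocks.OrderP.Perfect

open Cfsg CfsgLib Finset
open scoped ComplexConjugate

universe u

variable {p : ℕ} [hp : Fact p.Prime] {G : Type u} [Group G] [Fintype G] {u₀ : G} {n e : ℕ}
  {M : Ideal AlgInt}

/-- The principal block, with the principal character among the non-exceptional ones. -/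
structure Blk (p : ℕ) (e : ℕ) (u₀ : G) (M : Ideal AlgInt) where
  X : Finset (IrrCharacter G)
  Y : Finset (IrrCharacter G)
  εX : IrrCharacter G → ℤ
  ε : ℤ
  t : ℕ
  ht : t * e = p - 1
  disj : Disjoint X Y
  mem_iff : ∀ χ, χ ∈ principalBlock M G ↔ χ ∈ X ∨ χ ∈ Y
  one_mem : Chars.oneChar G ∈ X
  cardX : X.card = e
  cardY : Y.card = t
  hε : ε = 1 ∨ ε = -1
  sign : ∀ χ ∈ X, εX χ = 1 ∨ εX χ = -1
  congrX : ∀ χ ∈ X, (charDegree (χ : G → ℂ) : ZMod p) = (εX χ : ZMod p)
  congrY : ∀ θ ∈ Y, (charDegree (θ : G → ℂ) : ZMod p) = (ε : ZMod p) * (e : ZMod p)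
  valX : ∀ χ ∈ X, ∀ i : ZMod p, i ≠ 0 → (χ : G → ℂ) (upow u₀ i) = (εX χ : ℂ)
  rel : ∀ θ ∈ Y, ∀ g : G, ¬ p ∣ orderOf g →
    (ε : ℂ) * (θ : G → ℂ) g = ∑ χ ∈ X, (εX χ : ℂ) * (χ : G → ℂ) g

theorem Setup.exists_blk (S : Setup p n e u₀) (hM : IsPModular p M) :
    Nonempty (Blk p e u₀ M) := by
  classical
  have := isMaximal_of_isPModular hM
  obtain ⟨X, Y, hd, hmem, hX, hY, εX, ε, hε, hXp, hYc, hrel⟩ :=
    principal_block_structure hM S.hu S.hidx S.he
  obtain ⟨t, ht, ht1, htdiv⟩ := S.exists_t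
  rw [htdiv] at hY
  have cX : ∀ χ ∈ X, (charDegree (χ : G → ℂ) : ZMod p) = (εX χ : ZMod p) := by
    intro χ hχ
    simpa using (ZMod.intCast_eq_intCast_iff _ _ p).2 (hXp χ hχ).2.1
  have cY : ∀ θ ∈ Y, (charDegree (θ : G → ℂ) : ZMod p) = (ε : ZMod p) * (e : ZMod p) := by
    intro θ hθ
    simpa using (ZMod.intCast_eq_intCast_iff _ _ p).2 (hYc θ hθ)
  have vX : ∀ χ ∈ X, ∀ i : ZMod p, i ≠ 0 → (χ : G → ℂ) (upow u₀ i) = (εX χ : ℂ) := by
    intro χ hχ i hi
    rw [← (hXp χ hχ).2.2 _ ((mem_zpowers_iff_upow S.hu).2 ⟨i, rfl⟩)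
      (fun h => hi (upow_inj S.hu (h.trans (upow_zero S.hu).symm))) 1 (Commute.one_left _)
      not_dvd_orderOf_one, mul_one]
  set one := Chars.oneChar G with hone
  rcases (hmem one).1 oneChar_mem_principalBlock with h1 | h1
  · exact ⟨⟨X, Y, εX, ε, t, ht, hd, hmem, h1, hX, hY, hε, fun χ hχ => (hXp χ hχ).1, cX, cY, vX,
      hrel⟩⟩
  -- the principal character is exceptional: `t = 1`
  have hdeg1 : charDegree (one : G → ℂ) = 1 := Chars.charDegree_eq_of_map_one (by simp [hone])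
  have hYone : Y = {one} := by
    refine Finset.eq_singleton_iff_unique_mem.2 ⟨h1, fun θ hθ => S.eq_oneChar_of_deg_one ?_⟩
    have e1 := hrel θ hθ 1 not_dvd_orderOf_one
    rw [← hrel one h1 1 not_dvd_orderOf_one] at e1
    have e2 := mul_left_cancel₀ (by rcases hε with rfl | rfl <;> norm_num) e1
    rw [← Chars.coe_charDegree, ← Chars.coe_charDegree, hdeg1] at e2
    exact_mod_cast e2
  have ht1' : t = 1 := by rw [← hY, hYone, Finset.card_singleton]
  obtain ⟨χ₁, hχ₁⟩ : X.Nonempty := Finset.card_pos.1 (by rw [hX]; exact S.e_pos)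
  have hne : χ₁ ≠ one := fun h => Finset.disjoint_left.1 hd (h ▸ hχ₁) h1
  have honeX : one ∉ X := fun h => Finset.disjoint_left.1 hd h h1
  have hep : (e : ZMod p) = -1 := by
    have : ((e + 1 : ℕ) : ZMod p) = 0 := by
      rw [show e + 1 = p by rw [ht1', one_mul] at ht; have := hp.out.two_le; omega]
      exact ZMod.natCast_self p
    push_cast at this
    exact eq_neg_of_add_eq_zero_left this
  have hεe : (1 : ZMod p) = -(ε : ZMod p) := by
    have := cY one h1
    rwa [hdeg1, Nat.cast_one, hep, mul_neg, mul_one] at this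
  have hεv : ε = -1 := by
    rcases hε with rfl | rfl
    · exfalso
      have h2 : ((2 : ℕ) : ZMod p) = 0 := by
        have h3 : (1 : ZMod p) = -1 := by simpa using hεe
        push_cast
        linear_combination h3
      have hp2 := Nat.le_of_dvd (by norm_num) ((ZMod.natCast_eq_zero_iff _ _).1 h2)
      have := S.two_le_e
      rw [ht1', one_mul] at ht
      omega
    · rfl
  let δ : IrrCharacter G → ℤ := fun χ => if χ = one then 1 else εX χ
  have hδ : ∀ χ ∈ X, δ χ = εX χ := fun χ hχ => if_neg fun h => honeX (by rwa [h] at hχ)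
  refine ⟨⟨insert one (X.erase χ₁), {χ₁}, δ, -εX χ₁, t, ht, ?_, fun χ => ?_, ?_, ?_, ?_, ?_, ?_,
    ?_, ?_, ?_, ?_⟩⟩
  · simp [hne]
  · rw [hmem, hYone]
    simp only [Finset.mem_insert, Finset.mem_erase, Finset.mem_singleton]
    constructor
    · rintro (h | h)
      · by_cases h' : χ = χ₁
        · exact Or.inr h'
        · exact Or.inl (Or.inr ⟨h', h⟩)
      · exact Or.inl (Or.inl h)
    · rintro ((h | ⟨-, h⟩) | h)
      · exact Or.inr h
      · exact Or.inl h
      · exact Or.inl (h ▸ hχ₁)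
  · exact Finset.mem_insert_self _ _
  · rw [Finset.card_insert_of_notMem (by simp [honeX]), Finset.card_erase_of_mem hχ₁, hX]
    have := S.e_pos; omega
  · rw [Finset.card_singleton, ht1']
  · rcases (hXp χ₁ hχ₁).1 with h | h <;> simp [h]
  · intro χ hχ
    rcases Finset.mem_insert.1 hχ with rfl | hχ'
    · exact Or.inl (if_pos rfl)
    · rw [hδ χ (Finset.mem_of_mem_erase hχ')]; exact (hXp χ (Finset.mem_of_mem_erase hχ')).1
  · intro χ hχ
    rcases Finset.mem_insert.1 hχ with rfl | hχ'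
    · simp [δ, hdeg1]
    · rw [hδ χ (Finset.mem_of_mem_erase hχ')]; exact cX χ (Finset.mem_of_mem_erase hχ')
  · intro θ hθ
    rw [Finset.mem_singleton] at hθ
    rw [hθ, cX χ₁ hχ₁, hep]
    push_cast
    ring
  · intro χ hχ i hi
    rcases Finset.mem_insert.1 hχ with rfl | hχ'
    · simp [δ, hone]
    · rw [hδ χ (Finset.mem_of_mem_erase hχ')]; exact vX χ (Finset.mem_of_mem_erase hχ') i hi
  · intro θ hθ g hg
    rw [Finset.mem_singleton] at hθ
    subst hθ
    have e1 := hrel one h1 g hg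
    rw [hεv, Chars.oneChar_apply, ← Finset.add_sum_erase _ _ hχ₁] at e1
    rw [Finset.sum_insert (by simp [honeX]),
      Finset.sum_congr rfl fun χ hχ => by rw [hδ χ (Finset.mem_of_mem_erase hχ)]]
    simp only [δ, if_pos rfl, Int.cast_one, hone, Chars.oneChar_apply, Int.cast_neg]
    push_cast at e1
    linear_combination e1

namespace Blk

variable (B : Blk p e u₀ M)

theorem t_pos : 1 ≤ B.t := by
  rcases Nat.eq_zero_or_pos B.t with h | h
  · have := B.ht; rw [h, zero_mul] at this; have := hp.out.two_le; omega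
  · exact h

theorem Y_nonempty : B.Y.Nonempty := Finset.card_pos.1 (B.cardY.symm ▸ B.t_pos)

theorem εX_one : B.εX (Chars.oneChar G) = 1 := by
  have h := B.valX _ B.one_mem 1 one_ne_zero
  rw [Chars.oneChar_apply] at h
  exact_mod_cast h.symm

theorem e_cast_ne_zero (S : Setup p n e u₀) : (e : ZMod p) ≠ 0 := fun h => by
  have h1 := Nat.le_of_dvd S.e_pos ((ZMod.natCast_eq_zero_iff _ _).1 h)
  have h2 := Nat.le_of_dvd (by have := hp.out.two_le; omega) S.dvd
  have := hp.out.two_le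
  omega

/-- The common degree of the exceptional characters, as a signed sum. -/
theorem deg_Y {θ : IrrCharacter G} (hθ : θ ∈ B.Y) :
    B.ε * (charDegree (θ : G → ℂ) : ℤ) = ∑ χ ∈ B.X, B.εX χ * (charDegree (χ : G → ℂ) : ℤ) := by
  refine Int.cast_injective (α := ℂ) ?_
  push_cast
  rw [Chars.coe_charDegree, B.rel θ hθ 1 not_dvd_orderOf_one]
  exact Finset.sum_congr rfl fun χ _ => by rw [Chars.coe_charDegree]

theorem deg_Y_eq {θ η : IrrCharacter G} (hθ : θ ∈ B.Y) (hη : η ∈ B.Y) :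
    charDegree (θ : G → ℂ) = charDegree (η : G → ℂ) := by
  have h := (B.deg_Y hθ).trans (B.deg_Y hη).symm
  have := mul_left_cancel₀ (by rcases B.hε with h | h <;> simp [h]) h
  exact_mod_cast this

theorem Y_regular_eq {θ η : IrrCharacter G} (hθ : θ ∈ B.Y) (hη : η ∈ B.Y) {g : G}
    (hg : ¬ p ∣ orderOf g) : (θ : G → ℂ) g = (η : G → ℂ) g :=
  mul_left_cancel₀ (by rcases B.hε with h | h <;> simp [h])
    ((B.rel θ hθ g hg).trans (B.rel η hη g hg).symm)

theorem deg_ne_one (S : Setup p n e u₀) {χ : IrrCharacter G} (h : χ ∈ B.Y ∨ χ ≠ Chars.oneChar G) :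
    charDegree (χ : G → ℂ) ≠ 1 := fun h1 => by
  have := S.eq_oneChar_of_deg_one h1
  rcases h with h | h
  · exact Finset.disjoint_left.1 B.disj (this ▸ B.one_mem) h
  · exact h this

/-- The exceptional characters sum to `-ε` at nontrivial powers of `u₀`. -/
theorem sum_Y_apply (S : Setup p n e u₀) (hM : IsPModular p M) {i : ZMod p} (hi : i ≠ 0) :
    ∑ θ ∈ B.Y, (θ : G → ℂ) (upow u₀ i) = -(B.ε : ℂ) := by
  classical
  have := isMaximal_of_isPModular hM
  obtain ⟨θ₀, hθ₀⟩ := B.Y_nonempty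
  have h := finsum_block_one_mul_singular hM (isPBlock_principalBlock (G := G))
    (y := upow u₀ i) (by rw [orderOf_upow S.hu hi])
  rw [finsum_block_eq_sum] at h
  have hset : (principalBlock M G).toFinite.toFinset = B.X ∪ B.Y := by
    ext χ
    rw [Set.Finite.mem_toFinset, B.mem_iff, Finset.mem_union]
  rw [hset, Finset.sum_union B.disj,
    Finset.sum_congr rfl fun χ hχ => by rw [B.valX χ hχ i hi, mul_comm],
    ← B.rel θ₀ hθ₀ 1 not_dvd_orderOf_one,
    Finset.sum_congr rfl fun θ hθ => by rw [B.Y_regular_eq hθ hθ₀ not_dvd_orderOf_one],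
    ← Finset.mul_sum] at h
  have h0 := Chars.map_one_ne_zero θ₀
  have h1 : (θ₀ : G → ℂ) 1 * ((B.ε : ℂ) + ∑ θ ∈ B.Y, (θ : G → ℂ) (upow u₀ i)) = 0 := by
    rw [mul_add, mul_comm _ (B.ε : ℂ)]; exact h
  exact eq_neg_of_add_eq_zero_right ((mul_eq_zero.1 h1).resolve_left h0)

theorem dvd_X (S : Setup p n e u₀) {χ : IrrCharacter G} (hχ : χ ∈ B.X) :
    charDegree (χ : G → ℂ) ∣ e * (1 + n * p) := by
  refine S.dvd_of_sum {χ} _ (by simp) (B.sign χ hχ) ?_
  have h := B.valX χ hχ 1 one_ne_zero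
  rw [upow_one S.hu] at h
  rw [Finset.sum_singleton, h]

theorem dvd_Y (S : Setup p n e u₀) (hM : IsPModular p M) {θ : IrrCharacter G} (hθ : θ ∈ B.Y) :
    charDegree (θ : G → ℂ) ∣ e * (1 + n * p) := by
  refine S.dvd_of_sum B.Y _ (fun η hη => B.deg_Y_eq hη hθ) (c := -B.ε) ?_ ?_
  · rcases B.hε with h | h <;> simp [h]
  · push_cast
    have h := B.sum_Y_apply S hM (one_ne_zero (α := ZMod p))
    rwa [upow_one S.hu] at h

theorem te_cast : (B.t : ZMod p) * (e : ZMod p) = -1 := by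
  rw [← Nat.cast_mul, B.ht, Nat.cast_sub hp.out.one_lt.le, ZMod.natCast_self, Nat.cast_one,
    zero_sub]

theorem cast_M : ((1 + n * p : ℕ) : ZMod p) = 1 := by simp

/-- Degrees with sign `+`. -/
theorem deg_X_pos (S : Setup p n e u₀) (hF : ¬ CountForm n p) {χ : IrrCharacter G} (hχ : χ ∈ B.X)
    (hs : B.εX χ = 1) :
    χ = Chars.oneChar G ∨ charDegree (χ : G → ℂ) = 1 + n * p := by
  have h1 : (charDegree (χ : G → ℂ) : ZMod p) = 1 := by rw [B.congrX χ hχ, hs]; simp
  rcases eq_one_or_of_dvd hp.out.two_le hF h1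
    ((B.dvd_X S hχ).trans (mul_dvd_mul_right S.dvd _)) with h | h
  · exact Or.inl (S.eq_oneChar_of_deg_one h)
  · exact Or.inr h

/-- Degrees with sign `-`. -/
theorem deg_X_neg (S : Setup p n e u₀) (hF : ¬ CountForm n p) {χ : IrrCharacter G} (hχ : χ ∈ B.X)
    (hs : B.εX χ = -1) :
    charDegree (χ : G → ℂ) = p - 1 ∨
      (B.t = 1 ∧ charDegree (χ : G → ℂ) = e * (1 + n * p)) := by
  set f := charDegree (χ : G → ℂ)
  obtain ⟨k, hk⟩ := B.dvd_X S hχ
  have hf : (f : ZMod p) = -1 := by rw [B.congrX χ hχ, hs]; simp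
  have hk' : (k : ZMod p) = -(e : ZMod p) := by
    have := congrArg (Nat.cast : ℕ → ZMod p) hk
    rw [Nat.cast_mul, Nat.cast_mul, cast_M, mul_one, hf, neg_one_mul] at this
    rw [this, neg_neg]
  have hA : ((k * B.t : ℕ) : ZMod p) = 1 := by
    push_cast
    rw [hk', neg_mul, mul_comm, B.te_cast, neg_neg]
  have hmul : f * (k * B.t) = (p - 1) * (1 + n * p) := by
    rw [← B.ht, ← mul_assoc, ← hk]; ring
  rcases eq_one_or_of_dvd hp.out.two_le hF hA ⟨f, by rw [← hmul]; ring⟩ with h | h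
  · obtain ⟨hk1, ht1⟩ : k = 1 ∧ B.t = 1 := ⟨Nat.eq_one_of_mul_eq_one_right h,
      Nat.eq_one_of_mul_eq_one_left h⟩
    exact Or.inr ⟨ht1, by rw [hk, hk1, mul_one]⟩
  · rw [h] at hmul
    exact Or.inl (Nat.eq_of_mul_eq_mul_right (by omega) hmul)

/-- The exceptional degree with sign `+`. -/
theorem deg_Y_pos (S : Setup p n e u₀) (hM : IsPModular p M) (hF : ¬ CountForm n p)
    {θ : IrrCharacter G} (hθ : θ ∈ B.Y) (hs : B.ε = 1) :
    charDegree (θ : G → ℂ) = e ∨ charDegree (θ : G → ℂ) = e * (1 + n * p) := by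
  set f := charDegree (θ : G → ℂ)
  obtain ⟨k, hk⟩ := B.dvd_Y S hM hθ
  have hf : (f : ZMod p) = (e : ZMod p) := by rw [B.congrY θ hθ, hs]; simp
  have hk' : (k : ZMod p) = 1 := by
    have := congrArg (Nat.cast : ℕ → ZMod p) hk
    rw [Nat.cast_mul, Nat.cast_mul, cast_M, mul_one, hf] at this
    exact mul_left_cancel₀ (e_cast_ne_zero S) (this.symm.trans (mul_one _).symm)
  rcases eq_one_or_of_dvd hp.out.two_le hF hk'
    ((Dvd.intro_left _ hk.symm).trans (mul_dvd_mul_right S.dvd _)) with h | h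
  · right; rw [hk, h, mul_one]
  · left; rw [h] at hk
    exact (Nat.eq_of_mul_eq_mul_right (by omega) hk).symm

/-- The exceptional degree with sign `-`. -/
theorem deg_Y_neg (S : Setup p n e u₀) (hM : IsPModular p M) (hF : ¬ CountForm n p)
    {θ : IrrCharacter G} (hθ : θ ∈ B.Y) (hs : B.ε = -1) :
    B.t * charDegree (θ : G → ℂ) = 1 + n * p := by
  set f := charDegree (θ : G → ℂ)
  have hf : (f : ZMod p) = -(e : ZMod p) := by rw [B.congrY θ hθ, hs]; simp
  have hA : ((B.t * f : ℕ) : ZMod p) = 1 := by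
    push_cast
    rw [hf, mul_neg, B.te_cast, neg_neg]
  have hdvd : B.t * f ∣ (p - 1) * (1 + n * p) := by
    rw [← B.ht, mul_assoc]
    exact mul_dvd_mul_left _ (B.dvd_Y S hM hθ)
  rcases eq_one_or_of_dvd hp.out.two_le hF hA hdvd with h | h
  · exact absurd (Nat.eq_one_of_mul_eq_one_left h) (B.deg_ne_one S (Or.inl hθ))
  · exact h

end Blk

end CfsgLib.Blocks.OrderP.Perfect
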