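import Cfsg.Agent.Blocks.OrderP.Perfect.Complement

/-!
# The second configuration: columns at the complement
-/

set_option autoImplicit false
set_option linter.style.haveILetI false
set_option linter.unusedSectionVars false

namespace CfsgLib.Blocks.OrderP.Perfect

open Cfsg CfsgLib Finset
open scoped ComplexConjugate

universe u

variable {p : ℕ} [hp : Fact p.Prime] {G : Type u} [Group G] [Fintype G] {u₀ s : G} {n e : ℕ}

namespace CaseTwo

variable (C : CaseTwo p n e u₀)

theorem pred_eq : p - 1 = C.t * e := C.ht.symm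

theorem degY_cast {θ : IrrCharacter G} (hθ : θ ∈ C.Y) :
    (θ : G → ℂ) 1 + (e : ℂ) = (C.K : ℂ) * p := by
  rw [← Chars.coe_charDegree]; exact_mod_cast C.degY θ hθ

theorem Y_nonempty : C.Y.Nonempty := Finset.card_pos.1 (C.cardY.symm ▸ C.ht1)

theorem Y_regular_eq {θ η : IrrCharacter G} (hθ : θ ∈ C.Y) (hη : η ∈ C.Y) {g : G}
    (hg : ¬ p ∣ orderOf g) : (θ : G → ℂ) g = (η : G → ℂ) g :=
  add_left_cancel ((C.rel θ hθ g hg).trans (C.rel η hη g hg).symm)

/-- The degree equation. -/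
theorem e_eq : e = C.MA.card * (n + 1) + C.K + 1 := by
  obtain ⟨θ, hθ⟩ := C.Y_nonempty
  have h := C.rel θ hθ 1 not_dvd_orderOf_one
  rw [Finset.sum_congr rfl fun χ (hχ : χ ∈ C.MA) =>
      show (χ : G → ℂ) 1 = ((1 + n * p : ℕ) : ℂ) by rw [← Chars.coe_charDegree, C.degMA χ hχ],
    Finset.sum_congr rfl fun χ (hχ : χ ∈ C.BP) =>
      show (χ : G → ℂ) 1 = ((p - 1 : ℕ) : ℂ) by rw [← Chars.coe_charDegree, C.degBP χ hχ],
    Finset.sum_const, Finset.sum_const, nsmul_eq_mul, nsmul_eq_mul] at h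
  have hb : (C.BP.card : ℂ) = (e : ℂ) - 1 - C.MA.card := by
    have h' := congrArg (Nat.cast : ℕ → ℂ) C.cardX
    push_cast at h'
    linear_combination h'
  have hθ1 := C.degY_cast hθ
  have hp1 : ((p - 1 : ℕ) : ℂ) = (p : ℂ) - 1 := by rw [Nat.cast_sub hp.out.one_lt.le]; simp
  rw [hb, hp1] at h
  push_cast at h
  have h2 : ((e * p : ℕ) : ℂ) = (((C.MA.card * (n + 1) + C.K + 1) * p : ℕ) : ℂ) := by
    push_cast
    linear_combination -h + hθ1
  exact Nat.eq_of_mul_eq_mul_right hp.out.pos (Nat.cast_injective h2)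

theorem tD {θ : IrrCharacter G} (hθ : θ ∈ C.Y) :
    (C.t : ℂ) * (θ : G → ℂ) 1 = 1 + (n : ℂ) * p := by
  have hθ1 := C.degY_cast hθ
  have h1 : (C.t : ℂ) * C.K = n + 1 := by exact_mod_cast C.htK
  have h2 : (C.t : ℂ) * e = (p : ℂ) - 1 := by
    rw [← Nat.cast_one, ← Nat.cast_sub hp.out.one_lt.le, ← C.ht]
    push_cast; rfl
  linear_combination (C.t : ℂ) * hθ1 + (p : ℂ) * h1 - h2

variable (S : Setup p n e u₀)
  (hC : Subgroup.centralizer ({u₀} : Set G) = Subgroup.zpowers u₀)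
  (hs : IsComplementGen p e u₀ s)

include C S hC hs

theorem fix_MA {χ : IrrCharacter G} (hχ : χ ∈ C.MA) :
    fixChar p u₀ s (χ : G → ℂ) 1 = (n : ℂ) + 1 := by
  rw [fixChar_one S.hu, ← Chars.coe_charDegree, C.degMA χ hχ,
    Finset.sum_congr rfl fun i hi => C.valMA χ hχ i (Finset.ne_of_mem_erase hi), Finset.sum_const,
    Finset.card_erase_of_mem (Finset.mem_univ _), Finset.card_univ, ZMod.card, nsmul_one,
    Nat.cast_sub hp.out.one_lt.le, inv_mul_eq_iff_eq_mul₀ (Nat.cast_ne_zero.2 hp.out.ne_zero)]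
  push_cast; ring

theorem fix_BP {χ : IrrCharacter G} (hχ : χ ∈ C.BP) :
    fixChar p u₀ s (χ : G → ℂ) 1 = 0 := by
  rw [fixChar_one S.hu, ← Chars.coe_charDegree, C.degBP χ hχ,
    Finset.sum_congr rfl fun i hi => C.valBP χ hχ i (Finset.ne_of_mem_erase hi), Finset.sum_const,
    Finset.card_erase_of_mem (Finset.mem_univ _), Finset.card_univ, ZMod.card, nsmul_eq_mul]
  ring

theorem fix_Y {θ : IrrCharacter G} (hθ : θ ∈ C.Y) :
    fixChar p u₀ s (θ : G → ℂ) 1 = (C.K : ℂ) := by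
  rw [fixChar_one S.hu, C.sumY θ hθ, C.degY_cast hθ, mul_comm (C.K : ℂ), ← mul_assoc,
    inv_mul_cancel₀ (Nat.cast_ne_zero.2 hp.out.ne_zero), one_mul]

theorem BP_apply {χ : IrrCharacter G} (hχ : χ ∈ C.BP) {x : G} (hx : x ∈ Subgroup.zpowers s)
    (hx1 : x ≠ 1) : (χ : G → ℂ) x = 0 := by
  have h := congrFun (Chars.eq_zero_of_map_one_eq_zero
    (hs.isCharacter_fixChar S.hu (Chars.isCharacter_coe χ)) (C.fix_BP S hC hs hχ)) ⟨x, hx⟩
  rwa [hs.fixChar_apply S.hu (Chars.isClassFunction_coe χ) (fun h => hx1 (congrArg Subtype.val h))] at h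

open scoped Classical in
/-- The regular character of the complement. -/
theorem regular {θ : IrrCharacter G} (hθ : θ ∈ C.Y) (x : Subgroup.zpowers s) :
    1 + ∑ χ ∈ C.MA, fixChar p u₀ s (χ : G → ℂ) x + fixChar p u₀ s (θ : G → ℂ) x =
      if x = 1 then (e : ℂ) else 0 := by
  split_ifs with hx
  · subst hx
    rw [Finset.sum_congr rfl fun χ hχ => C.fix_MA S hC hs hχ, C.fix_Y S hC hs hθ, Finset.sum_const,
      nsmul_eq_mul]
    conv_rhs => rw [C.e_eq]
    push_cast; ring
  · have hx1 : (x : G) ≠ 1 := fun h => hx (Subtype.ext h)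
    have hcl : ∀ χ : IrrCharacter G, fixChar p u₀ s (χ : G → ℂ) x = (χ : G → ℂ) x := fun χ =>
      hs.fixChar_apply S.hu (Chars.isClassFunction_coe χ) hx
    simp only [hcl]
    rw [C.rel θ hθ x (hs.not_dvd_orderOf S x.2)]
    exact Finset.sum_eq_zero fun χ hχ => C.BP_apply S hC hs hχ x.2 hx1

/-- Each of these restrictions is a sum of distinct nontrivial linear characters. -/
theorem fix_moments {χ : IrrCharacter G} (hχ : χ ∈ C.MA ∨ χ ∈ C.Y) :
    ∑ x : Subgroup.zpowers s, fixChar p u₀ s (χ : G → ℂ) x = 0 ∧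
    ∑ x : Subgroup.zpowers s,
        fixChar p u₀ s (χ : G → ℂ) x * conj (fixChar p u₀ s (χ : G → ℂ) x) =
      (e : ℂ) * fixChar p u₀ s (χ : G → ℂ) 1 := by
  classical
  obtain ⟨θ, hθ, hmem⟩ : ∃ θ ∈ C.Y, χ ∈ insert θ C.MA := by
    rcases hχ with h | h
    · exact ⟨_, C.Y_nonempty.choose_spec, Finset.mem_insert_of_mem h⟩
    · exact ⟨χ, h, Finset.mem_insert_self _ _⟩
  set E := Subgroup.zpowers s
  have hcardE : Nat.card E = e := by rw [Nat.card_zpowers, hs.order]
  have he0 : (e : ℂ) ≠ 0 := Nat.cast_ne_zero.2 (by have := S.e_pos; omega)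
  have hθMA : θ ∉ C.MA := fun h => Finset.disjoint_left.1 C.dMY h hθ
  let μ : IrrCharacter G → E → ℂ := fun η => fixChar p u₀ s (η : G → ℂ)
  have hμ : ∀ η, IsCharacter E (μ η) := fun η =>
    hs.isCharacter_fixChar S.hu (Chars.isCharacter_coe η)
  choose c hcsum hc using fun η => Chars.exists_nat_coeff (hμ η)
  have hreg : ∀ l : IrrCharacter E,
      classInner (1 : E → ℂ) (l : E → ℂ) + ∑ η ∈ insert θ C.MA, (c η l : ℂ) = 1 := by
    intro l
    simp only [← hc, classInner, ← Finset.mul_sum]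
    rw [Finset.sum_comm, ← mul_add, ← Finset.sum_add_distrib]
    simp only [Pi.one_apply, ← Finset.sum_mul, ← add_mul]
    have h1 : ∀ x : E, 1 + ∑ η ∈ insert θ C.MA, μ η x = if x = 1 then (e : ℂ) else 0 := by
      intro x
      rw [Finset.sum_insert hθMA, add_comm (μ θ x), ← add_assoc]
      exact C.regular S hC hs hθ x
    simp only [h1, ite_mul, zero_mul, Finset.sum_ite_eq', Finset.mem_univ, if_true]
    rw [Chars.map_one_eq_one_of_isMulCommutative, map_one, mul_one, hcardE, inv_mul_cancel₀ he0]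
  have hle : ∀ l, c χ l ≤ 1 := by
    intro l
    obtain ⟨m, hm⟩ := Chars.exists_nat_classInner (Chars.isCharacter_one (G := E)) l
    have h := hreg l
    rw [hm] at h
    have h2 : m + ∑ η ∈ insert θ C.MA, c η l = 1 := by exact_mod_cast h
    have := Finset.single_le_sum (f := fun η => c η l) (fun _ _ => Nat.zero_le _) hmem
    omega
  have hone : c χ (Chars.oneChar E) = 0 := by
    have h := hreg (Chars.oneChar E)
    rw [show classInner (1 : E → ℂ) (Chars.oneChar E : E → ℂ) = 1 by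
      rw [show (1 : E → ℂ) = (Chars.oneChar E : E → ℂ) from funext fun _ => (Chars.oneChar_apply _).symm,
        Chars.classInner_self]] at h
    have h2 : ∑ η ∈ insert θ C.MA, c η (Chars.oneChar E) = 0 :=
      Nat.cast_injective (R := ℂ) (by push_cast; linear_combination h)
    exact Finset.sum_eq_zero_iff.1 h2 χ hmem
  constructor
  · have h := hc χ (Chars.oneChar E)
    rw [hone, Nat.cast_zero] at h
    simp only [classInner, Chars.oneChar_apply, map_one, mul_one, hcardE] at h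
    exact (mul_eq_zero.1 h).resolve_left (inv_ne_zero he0)
  · have h1 : classInner (μ χ) (μ χ) = ∑ l, (c χ l : ℂ) := by
      rw [Chars.classInner_eq_sum (Chars.isClassFunction_of_isCharacter (hμ χ))]
      refine Finset.sum_congr rfl fun l _ => ?_
      rw [hc χ l, map_natCast, ← Nat.cast_mul]
      have := hle l
      interval_cases c χ l <;> rfl
    have h2 : μ χ 1 = ∑ l, (c χ l : ℂ) := by
      rw [congrFun (hcsum χ) 1, Finset.sum_apply]
      refine Finset.sum_congr rfl fun l _ => ?_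
      rw [Pi.smul_apply, Chars.map_one_eq_one_of_isMulCommutative, smul_eq_mul, mul_one]
    rw [← h2] at h1
    simp only [classInner, hcardE] at h1
    rwa [inv_mul_eq_iff_eq_mul₀ he0] at h1

/-- The remaining characters. -/
noncomputable def rest : Finset (IrrCharacter G) := by
  classical exact (insert (Chars.oneChar G) (C.MA ∪ C.BP ∪ C.Y))ᶜ

omit S hC hs in
theorem sum_split (f : IrrCharacter G → ℂ) :
    ∑ χ, f χ = f (Chars.oneChar G) + ∑ χ ∈ C.MA, f χ + ∑ χ ∈ C.BP, f χ + ∑ χ ∈ C.Y, f χ +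
      ∑ χ ∈ C.rest, f χ := by
  classical
  rw [← Finset.sum_add_sum_compl (insert (Chars.oneChar G) (C.MA ∪ C.BP ∪ C.Y)), Finset.sum_insert
    (by simp [C.one_MA, C.one_BP, C.one_Y]), Finset.sum_union (by
      rw [Finset.disjoint_union_left]; exact ⟨C.dMY, C.dBY⟩), Finset.sum_union C.dMB]
  simp only [rest, ← add_assoc]

/-- The multiplicity `j = deg / p` of the remaining characters. -/
theorem rest_deg {χ : IrrCharacter G} (hχ : χ ∈ C.rest) :
    ∃ j : ℕ, (χ : G → ℂ) 1 = (p : ℂ) * j ∧ fixChar p u₀ s (χ : G → ℂ) 1 = j ∧ 0 < j := by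
  classical
  simp only [rest, Finset.mem_compl, Finset.mem_insert, Finset.mem_union, not_or] at hχ
  obtain ⟨j, hj⟩ := Chars.exists_natCast_map_one (hs.isCharacter_fixChar S.hu (Chars.isCharacter_coe χ))
  have h1 : (χ : G → ℂ) 1 = (p : ℂ) * j := by
    have h := fixChar_one (s := s) S.hu (χ : G → ℂ)
    rw [hj, Finset.sum_eq_zero (fun i hi => C.other χ hχ.1 hχ.2.1.1 hχ.2.1.2 hχ.2.2 i
      (Finset.ne_of_mem_erase hi)), add_zero] at h
    rw [h, ← mul_assoc, mul_inv_cancel₀ (Nat.cast_ne_zero.2 hp.out.ne_zero), one_mul]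
  refine ⟨j, h1, hj, Nat.pos_of_ne_zero fun h0 => Chars.map_one_ne_zero χ ?_⟩
  rw [h1, h0, Nat.cast_zero, mul_zero]

omit hs in
/-- The sum of the squares. -/
theorem sum_rest_sq : ∑ χ ∈ C.rest, (χ : G → ℂ) 1 * (χ : G → ℂ) 1 = (p : ℂ) ^ 2 * n := by
  classical
  obtain ⟨θ, hθ⟩ := C.Y_nonempty
  have h := Chars.sum_irr_map_one_mul (1 : G)
  rw [if_pos rfl, C.sum_split, Chars.oneChar_apply, one_mul,
    Finset.sum_congr rfl fun χ hχ => by rw [← Chars.coe_charDegree, C.degMA χ hχ],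
    Finset.sum_congr rfl fun χ (hχ : χ ∈ C.BP) => by rw [← Chars.coe_charDegree, C.degBP χ hχ],
    Finset.sum_congr rfl fun η (hη : η ∈ C.Y) => by
      rw [C.Y_regular_eq hη hθ not_dvd_orderOf_one],
    Finset.sum_const, Finset.sum_const, Finset.sum_const, nsmul_eq_mul, nsmul_eq_mul, nsmul_eq_mul,
    C.cardY, S.card_eq hC] at h
  have hb : (C.BP.card : ℂ) = (e : ℂ) - 1 - C.MA.card := by
    have h' := congrArg (Nat.cast : ℕ → ℂ) C.cardX
    push_cast at h'
    linear_combination h'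
  have hp1 : ((p - 1 : ℕ) : ℂ) = (p : ℂ) - 1 := by rw [Nat.cast_sub hp.out.one_lt.le]; simp
  have he : (e : ℂ) = C.MA.card * (n + 1) + C.K + 1 := by exact_mod_cast C.e_eq
  have hθ1 := C.degY_cast hθ
  have htD := C.tD hθ
  have hKe : (C.K : ℂ) * ((p : ℂ) - 1) = (e : ℂ) * (n + 1) := by
    rw [← hp1, ← C.ht]
    have h1 : (C.t : ℂ) * C.K = n + 1 := by exact_mod_cast C.htK
    push_cast
    linear_combination (e : ℂ) * h1
  rw [hb, hp1] at h
  push_cast at h
  linear_combination h - (θ : G → ℂ) 1 * htD - (1 + (n : ℂ) * p) * hθ1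
    - (p : ℂ) * hKe
    + (((p : ℂ) * (1 + n * p) + (1 + n * p) - ((p : ℂ) - 1) ^ 2) - p * (n + 1)) * he

/-- Values of the remaining characters on the complement. -/
theorem rest_apply {χ : IrrCharacter G} (hχ : χ ∈ C.rest) {x : G} (hx : x ∈ Subgroup.zpowers s)
    (hx1 : x ≠ 1) : (χ : G → ℂ) x * (p : ℂ) = (χ : G → ℂ) 1 := by
  classical
  obtain ⟨θ, hθ⟩ := C.Y_nonempty
  choose! j hj1 hj2 hjpos using fun (η : IrrCharacter G) (hη : η ∈ C.rest) => C.rest_deg S hC hs hη
  have hxr := hs.not_dvd_orderOf S hx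
  have hrel : ∑ η ∈ C.MA, (η : G → ℂ) x + (θ : G → ℂ) x = -1 := by
    have h := C.rel θ hθ x hxr
    rw [Finset.sum_eq_zero (s := C.BP) fun η hη => C.BP_apply S hC hs hη hx hx1] at h
    linear_combination h
  have horth := Chars.sum_irr_map_one_mul x
  rw [if_neg hx1, C.sum_split, Chars.oneChar_apply, Chars.oneChar_apply, one_mul,
    Finset.sum_congr rfl fun η (hη : η ∈ C.MA) => by rw [← Chars.coe_charDegree, C.degMA η hη],
    Finset.sum_eq_zero (s := C.BP) fun η hη => by rw [C.BP_apply S hC hs hη hx hx1, mul_zero],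
    Finset.sum_congr rfl fun η (hη : η ∈ C.Y) => by
      rw [C.Y_regular_eq hη hθ hxr, C.Y_regular_eq hη hθ not_dvd_orderOf_one],
    Finset.sum_congr rfl fun η (hη : η ∈ C.rest) => by rw [hj1 η hη, mul_assoc],
    Finset.sum_const, nsmul_eq_mul, C.cardY, ← Finset.mul_sum, ← Finset.mul_sum] at horth
  have htD := C.tD hθ
  have hX : ∑ η ∈ C.rest, (j η : ℂ) * (η : G → ℂ) x = n := by
    refine mul_left_cancel₀ (Nat.cast_ne_zero.2 hp.out.ne_zero : (p : ℂ) ≠ 0) ?_
    push_cast at horth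
    linear_combination horth - (θ : G → ℂ) x * htD - (1 + (n : ℂ) * p) * hrel
  have hsq : ∑ η ∈ C.rest, (j η : ℂ) * (j η : ℂ) = n := by
    refine mul_left_cancel₀ (pow_ne_zero 2 (Nat.cast_ne_zero.2 hp.out.ne_zero) : ((p : ℂ)) ^ 2 ≠ 0) ?_
    rw [← C.sum_rest_sq S hC, Finset.mul_sum]
    exact Finset.sum_congr rfl fun η hη => by rw [hj1 η hη]; ring
  have hbound : ∀ η ∈ C.rest, ‖(η : G → ℂ) x‖ ≤ (j η : ℝ) := by
    intro η hη
    have h := Chars.norm_apply_le (hs.isCharacter_fixChar S.hu (Chars.isCharacter_coe η)) ⟨x, hx⟩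
    rwa [hs.fixChar_apply S.hu (Chars.isClassFunction_coe η) (fun h => hx1 (congrArg Subtype.val h)),
      hj2 η hη, Complex.norm_natCast] at h
  have hnn : ∀ η ∈ C.rest, 0 ≤ (j η : ℝ) * ((j η : ℝ) - ((η : G → ℂ) x).re) := fun η hη =>
    mul_nonneg (Nat.cast_nonneg _) (sub_nonneg.2 ((Complex.re_le_norm _).trans (hbound η hη)))
  have hzero : ∑ η ∈ C.rest, (j η : ℝ) * ((j η : ℝ) - ((η : G → ℂ) x).re) = 0 := by
    have h1 := congrArg Complex.re (hsq.trans hX.symm)
    simp only [Complex.re_sum, Complex.mul_re, Complex.natCast_re, Complex.natCast_im, zero_mul,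
      sub_zero] at h1
    simp only [mul_sub, Finset.sum_sub_distrib]
    rw [h1, sub_self]
  have h3 := (Finset.sum_eq_zero_iff_of_nonneg hnn).1 hzero χ hχ
  have hre : ((χ : G → ℂ) x).re = (j χ : ℝ) := by
    rcases mul_eq_zero.1 h3 with h | h
    · exact absurd (Nat.cast_eq_zero.1 h) (hjpos χ hχ).ne'
    · linarith
  have him : ((χ : G → ℂ) x).im = 0 := by
    have h4 := hbound χ hχ
    rw [← hre] at h4
    exact Complex.re_eq_norm.1 (le_antisymm (Complex.re_le_norm _) h4) |>.2.symm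
  rw [hj1 χ hχ, mul_comm]
  congr 1
  exact Complex.ext (by rw [hre, Complex.natCast_re]) (by rw [him, Complex.natCast_im])

/-- The column inner product at two elements of the complement. -/
theorem column {x y : G} (hx : x ∈ Subgroup.zpowers s) (hx1 : x ≠ 1) (hy : y ∈ Subgroup.zpowers s)
    (hy1 : y ≠ 1) {θ : IrrCharacter G} (hθ : θ ∈ C.Y) :
    ∑ χ : IrrCharacter G, (χ : G → ℂ) x * conj ((χ : G → ℂ) y) =
      1 + (n : ℂ) + ∑ χ ∈ C.MA, (χ : G → ℂ) x * conj ((χ : G → ℂ) y) +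
        (C.t : ℂ) * ((θ : G → ℂ) x * conj ((θ : G → ℂ) y)) := by
  classical
  have hp0 : (p : ℂ) ≠ 0 := Nat.cast_ne_zero.2 hp.out.ne_zero
  rw [C.sum_split, Chars.oneChar_apply, Chars.oneChar_apply, map_one, mul_one,
    Finset.sum_eq_zero (s := C.BP) fun χ hχ => by rw [C.BP_apply S hC hs hχ hx hx1, zero_mul],
    Finset.sum_congr rfl fun χ (hχ : χ ∈ C.Y) => by
      rw [C.Y_regular_eq hχ hθ (hs.not_dvd_orderOf S hx), C.Y_regular_eq hχ hθ (hs.not_dvd_orderOf S hy)],
    Finset.sum_const, nsmul_eq_mul, C.cardY]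
  have hrest : ∑ χ ∈ C.rest, (χ : G → ℂ) x * conj ((χ : G → ℂ) y) = n := by
    refine mul_left_cancel₀ (pow_ne_zero 2 hp0) ?_
    rw [← C.sum_rest_sq S hC, Finset.mul_sum]
    refine Finset.sum_congr rfl fun χ hχ => ?_
    have h2 := congrArg conj (C.rest_apply S hC hs hχ hy hy1)
    rw [map_mul, Chars.conj_map_one (Chars.isCharacter_coe χ), Complex.conj_natCast] at h2
    conv_rhs => arg 1; rw [← C.rest_apply S hC hs hχ hx hx1]
    conv_rhs => arg 2; rw [← h2]
    ring
  rw [hrest]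
  ring

open scoped Classical in
/-- The row sums. -/
theorem row_sum {x : G} (hx : x ∈ Subgroup.zpowers s) (hx1 : x ≠ 1) :
    Nat.card (Subgroup.centralizer ({x} : Set G)) *
      ((Finset.univ.erase (1 : Subgroup.zpowers s)).filter fun y : Subgroup.zpowers s => IsConj x (y : G)).card =
        (n + 1) * e := by
  classical
  obtain ⟨θ, hθ⟩ := C.Y_nonempty
  set E := Subgroup.zpowers s
  have hcardE : Fintype.card E = e := by rw [← Nat.card_eq_fintype_card, Nat.card_zpowers, hs.order]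
  have h1 : ∑ y ∈ Finset.univ.erase (1 : E), ∑ χ : IrrCharacter G, (χ : G → ℂ) x * conj ((χ : G → ℂ) y) =
      ((((Finset.univ.erase (1 : E)).filter fun y : E => IsConj x (y : G)).card *
        Nat.card (Subgroup.centralizer ({x} : Set G)) : ℕ) : ℂ) := by
    rw [Finset.sum_congr rfl fun (y : E) _ => Chars.sum_irr_mul_conj x (y : G), Nat.cast_mul,
      ← nsmul_eq_mul, ← Finset.sum_const, Finset.sum_filter]
    exact Finset.sum_congr rfl fun y _ => by congr 1
  have hz : ∀ χ : IrrCharacter G, χ ∈ C.MA ∨ χ ∈ C.Y →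
      ∑ y ∈ Finset.univ.erase (1 : E), conj ((χ : G → ℂ) y) = -fixChar p u₀ s (χ : G → ℂ) 1 := by
    intro χ hχ
    have h := (C.fix_moments S hC hs hχ).1
    rw [← Finset.add_sum_erase _ _ (Finset.mem_univ (1 : E))] at h
    have h2 := eq_neg_of_add_eq_zero_right h
    rw [Finset.sum_congr rfl fun y hy => hs.fixChar_apply S.hu (Chars.isClassFunction_coe χ)
      (Finset.ne_of_mem_erase hy)] at h2
    rw [← map_sum, h2, map_neg]
    congr 1
    obtain ⟨m, hm⟩ := Chars.exists_natCast_map_one (hs.isCharacter_fixChar S.hu (Chars.isCharacter_coe χ))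
    rw [hm, map_natCast]
  rw [Finset.sum_congr rfl fun (y : E) hy => C.column S hC hs hx hx1 y.2
      (fun h => Finset.ne_of_mem_erase hy (Subtype.ext h)) hθ, Finset.sum_add_distrib,
    Finset.sum_add_distrib, Finset.sum_const, Finset.card_erase_of_mem (Finset.mem_univ _),
    Finset.card_univ, hcardE, nsmul_eq_mul, Finset.sum_comm, ← Finset.mul_sum, ← Finset.mul_sum,
    hz θ (Or.inr hθ), C.fix_Y S hC hs hθ,
    Finset.sum_congr rfl fun χ (hχ : χ ∈ C.MA) => by
      rw [← Finset.mul_sum, hz χ (Or.inl hχ), C.fix_MA S hC hs hχ],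
    ← Finset.sum_mul] at h1
  have hrel : ∑ η ∈ C.MA, (η : G → ℂ) x + (θ : G → ℂ) x = -1 := by
    have h := C.rel θ hθ x (hs.not_dvd_orderOf S hx)
    rw [Finset.sum_eq_zero (s := C.BP) fun η hη => C.BP_apply S hC hs hη hx hx1] at h
    linear_combination h
  have htK : (C.t : ℂ) * C.K = n + 1 := by exact_mod_cast C.htK
  rw [mul_comm]
  refine Nat.cast_injective (R := ℂ) ?_
  rw [← h1, Nat.cast_sub (by have := S.e_pos; omega)]
  push_cast
  linear_combination -(θ : G → ℂ) x * htK - ((n : ℂ) + 1) * hrel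

/-- The normaliser of the complement. -/
theorem card_normalizer :
    Nat.card (Subgroup.normalizer (Subgroup.zpowers s : Set G)) = (n + 1) * e ∧
      Subgroup.centralizer ({s} : Set G) ≤ Subgroup.normalizer (Subgroup.zpowers s : Set G) := by
  classical
  set E := Subgroup.zpowers s
  set N := Subgroup.normalizer (E : Set G) with hN
  have hs1 : s ≠ 1 := fun h => by
    have h1 := hs.order; rw [h, orderOf_one] at h1; have := S.two_le_e; omega
  have hsN : s ∈ N := Subgroup.le_normalizer (Subgroup.mem_zpowers s)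
  have hCle : Subgroup.centralizer ({s} : Set G) ≤ N := by
    rw [← HeightZero.centralizer_zpowers_eq]; exact Subgroup.centralizer_le_normalizer _
  refine ⟨?_, hCle⟩
  have h := Chars.card_isConj_mul_card_centralizer (⟨s, hsN⟩ : N)
  have hcen : Nat.card (Subgroup.centralizer ({(⟨s, hsN⟩ : N)} : Set N)) =
      Nat.card (Subgroup.centralizer ({s} : Set G)) := by
    refine Nat.card_congr
      { toFun := fun c => ⟨((c : N) : G), Subgroup.mem_centralizer_singleton_iff.2
          (congrArg Subtype.val (Subgroup.mem_centralizer_singleton_iff.1 c.2))⟩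
        invFun := fun c => ⟨⟨(c : G), hCle c.2⟩, Subgroup.mem_centralizer_singleton_iff.2
          (Subtype.ext (Subgroup.mem_centralizer_singleton_iff.1 c.2))⟩
        left_inv := fun _ => rfl
        right_inv := fun _ => rfl }
  have hconj : Nat.card {x : N // IsConj (⟨s, hsN⟩ : N) x} =
      ((Finset.univ.erase (1 : E)).filter fun y : E => IsConj s (y : G)).card := by
    rw [← Nat.card_eq_finsetCard]
    refine Nat.card_congr (Equiv.ofBijective (fun x => ⟨⟨((x : N) : G), ?_⟩, ?_⟩) ⟨?_, ?_⟩)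
    · obtain ⟨g, hg⟩ := isConj_iff.1 x.2
      rw [← hg]
      exact (Subgroup.mem_normalizer_iff.1 g.2 s).1 (Subgroup.mem_zpowers s)
    · obtain ⟨g, hg⟩ := isConj_iff.1 x.2
      have hg' : (g : G) * s * (g : G)⁻¹ = ((x : N) : G) := congrArg Subtype.val hg
      simp only [Finset.mem_filter, Finset.mem_erase, Finset.mem_univ, and_true]
      refine ⟨fun h1 => hs1 ?_, isConj_iff.2 ⟨g, hg'⟩⟩
      have h2 : ((x : N) : G) = 1 := congrArg Subtype.val h1
      rw [h2] at hg'
      exact conj_eq_one_iff.1 hg'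
    · intro a b hab
      exact Subtype.ext (Subtype.ext (congrArg (fun z => ((z.1 : E) : G)) hab))
    · rintro ⟨y, hy⟩
      obtain ⟨-, hy'⟩ := Finset.mem_filter.1 hy
      obtain ⟨g, hg⟩ := isConj_iff.1 hy'
      have hgN : g ∈ N := by
        rw [hN, Subgroup.mem_normalizer_iff_map_conj_eq]
        refine Subgroup.eq_of_le_of_card_ge ?_ ?_
        · rw [Subgroup.map_le_iff_le_comap, Subgroup.zpowers_le, Subgroup.mem_comap]
          show g * s * g⁻¹ ∈ E
          rw [hg]; exact y.2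
        · rw [Subgroup.card_map_of_injective (MulAut.conj g).injective]
      exact ⟨⟨⟨g * s * g⁻¹, N.mul_mem (N.mul_mem hgN hsN) (N.inv_mem hgN)⟩,
        isConj_iff.2 ⟨⟨g, hgN⟩, rfl⟩⟩, Subtype.ext (Subtype.ext hg)⟩
  rw [← h, hconj, hcen, mul_comm]
  exact C.row_sum S hC hs (Subgroup.mem_zpowers s) hs1

/-- `K = 1`. -/
theorem K_eq_one : C.K = 1 ∧ C.t = n + 1 ∧ e = C.MA.card * C.t + 2 := by
  classical
  have hn := S.n_pos
  have hdvd : (n + 1) * e ∣ p * (e * (1 + n * p)) := by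
    rw [← (C.card_normalizer S hC hs).1, ← S.card_eq hC]
    exact Subgroup.card_subgroup_dvd_card _
  have he := C.e_eq
  have hK : 0 < C.K := Nat.pos_of_ne_zero fun h => by
    have := C.htK; rw [h, mul_zero] at this; omega
  have htK := C.htK
  have hlt : n + 1 < p := by
    have h1 : C.t * C.K < C.t * e := Nat.mul_lt_mul_of_pos_left (by omega) C.ht1
    have := C.ht
    omega
  have h1 : n + 1 ∣ p * (1 + n * p) :=
    Nat.dvd_of_mul_dvd_mul_right S.e_pos (hdvd.trans (dvd_of_eq (by ring)))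
  have hco : Nat.Coprime (n + 1) p := ((hp.out.coprime_iff_not_dvd).2 fun h =>
    absurd (Nat.le_of_dvd (by omega) h) (by omega)).symm
  have h2 : n + 1 ∣ 1 + n * p := hco.dvd_of_dvd_mul_left h1
  obtain ⟨θ, hθ⟩ := C.Y_nonempty
  have h3 : C.t * charDegree (θ : G → ℂ) = 1 + n * p := by
    refine Nat.cast_injective (R := ℂ) ?_
    push_cast
    rw [Chars.coe_charDegree]
    exact C.tD hθ
  rw [← h3, ← htK] at h2
  have h4 : C.K ∣ charDegree (θ : G → ℂ) := Nat.dvd_of_mul_dvd_mul_left C.ht1 h2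
  have h5 : C.K ∣ e := by
    have h6 := C.degY θ hθ
    exact (Nat.dvd_add_right h4).1 (h6 ▸ dvd_mul_right _ _)
  have h7 : C.K ∣ 1 := by
    refine (Nat.dvd_add_right ?_).1 (h5.trans (dvd_of_eq he))
    rw [← htK]
    exact dvd_add (dvd_mul_of_dvd_right (dvd_mul_left _ _) _) dvd_rfl
  have hK1 : C.K = 1 := Nat.dvd_one.1 h7
  rw [hK1, mul_one] at htK
  refine ⟨hK1, htK, ?_⟩
  rw [htK]; omega

end CaseTwo

end CfsgLib.Blocks.OrderP.Perfect
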