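import Cfsg.Agent.Blocks.OrderP.Perfect.Sign
import Cfsg.Agent.StronglyEmbedded.AbelianCentralizer
import Mathlib.GroupTheory.PGroup

/-!
# The second configuration without characters of degree `1 + np`
-/

set_option autoImplicit false
set_option linter.style.haveILetI false
set_option linter.unusedSectionVars false

namespace CfsgLib.Blocks.OrderP.Perfect

open Cfsg CfsgLib Finset
open scoped ComplexConjugate

universe u

variable {p : ℕ} [hp : Fact p.Prime] {G : Type u} [Group G] [Fintype G] {u₀ s : G} {n e : ℕ}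

theorem commutative_of_sq {H : Type*} [Group H] (h : ∀ x : H, x * x = 1) (a b : H) :
    a * b = b * a := by
  have ha : a⁻¹ = a := inv_eq_of_mul_eq_one_right (h a)
  have hb : b⁻¹ = b := inv_eq_of_mul_eq_one_right (h b)
  calc a * b = (a * b)⁻¹ := (inv_eq_of_mul_eq_one_right (h (a * b))).symm
    _ = b⁻¹ * a⁻¹ := mul_inv_rev a b
    _ = b * a := by rw [ha, hb]

/-- Without characters of degree `1 + np` the centralisers of involutions are elementary abelian of
order `p - 1`. -/
theorem CaseTwo.char_two (C : CaseTwo p n e u₀) (S : Setup p n e u₀)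
    (hC : Subgroup.centralizer ({u₀} : Set G) = Subgroup.zpowers u₀)
    (hs : IsComplementGen p e u₀ s) (ha : C.MA = ∅) :
    ∃ (m : ℕ) (T : Sylow 2 G), p = 2 ^ m + 1 ∧ 3 < p ∧
      Nat.card G = p * (p - 1) * (p - 2) ∧ Nat.card T = 2 ^ m ∧
      StronglyEmbedded.AbelianCentralizer.Hyp T := by
  classical
  haveI h2f : Fact (Nat.Prime 2) := ⟨Nat.prime_two⟩
  obtain ⟨hK, htn, he⟩ := C.K_eq_one S hC hs
  rw [ha, Finset.card_empty, zero_mul, zero_add] at he
  subst he
  have ht := C.two_le_t S hC hs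
  have hpe : p = 2 * C.t + 1 := by
    have h1 := C.p_eq S hC hs
    omega
  obtain ⟨θ, hθ⟩ := C.Y_nonempty
  have hD : charDegree (θ : G → ℂ) + 2 = p := C.deg_Y_add S hC hs hθ
  have hM := C.t_mul_deg S hC hs hθ
  set D := charDegree (θ : G → ℂ)
  have hG : Nat.card G = p * (p - 1) * (p - 2) := by
    rw [S.card_eq hC, ← hM, show p - 2 = D by omega, show p - 1 = 2 * C.t by omega]
    ring
  -- nontrivial elements of the complement
  have hsx : ∀ x ∈ Subgroup.zpowers s, x ≠ 1 → x = s := by
    intro x hx hx1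
    obtain ⟨k, hk⟩ := Submonoid.mem_powers_iff _ _ |>.1 (mem_powers_iff_mem_zpowers.2 hx)
    rw [← pow_mod_orderOf, hs.order] at hk
    rcases Nat.mod_two_eq_zero_or_one k with h | h <;> rw [h] at hk
    · rw [pow_zero] at hk; exact absurd hk.symm hx1
    · rw [pow_one] at hk; exact hk.symm
  have hsord : orderOf s = 2 := hs.order
  have hs1 : s ≠ 1 := fun h => by rw [h, orderOf_one] at hsord; omega
  have hθs : (θ : G → ℂ) s = -1 := by
    have h := (C.apply_pow S hC hs hθ).2 1 (by rwa [pow_one])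
    rwa [pow_one, pow_one] at h
  -- every element of order a prime divisor of `p - 1` is conjugate to `s`
  have hconj : ∀ q : ℕ, q.Prime → q ∣ p - 1 → ∀ τ : G, τ ≠ 1 → q ∣ orderOf τ →
      ¬ p ∣ orderOf τ → IsConj τ s := by
    intro q hq hq1 τ hτ1 hτq hτp
    refine C.isConj_of_vanish S hC hs hθ hτ1 hτp (by simp [ha]) (fun χ hχ => ?_)
      (Subgroup.mem_zpowers s) hs1 hθs
    refine apply_eq_zero_of_codegree hq χ (r := p * (p - 2)) ?_ ?_ hτq
    · rw [C.degBP χ hχ, hG]; ring
    · intro h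
      rcases (Nat.Prime.dvd_mul hq).1 h with h | h
      · have h1 := (Nat.prime_dvd_prime_iff_eq hq hp.out).1 h
        have h2 := Nat.le_of_dvd (by omega) hq1
        omega
      · have h2 : q ∣ (p - 1) - (p - 2) := Nat.dvd_sub hq1 h
        rw [show (p - 1) - (p - 2) = 1 by omega] at h2
        exact hq.ne_one (Nat.dvd_one.1 h2)
  -- `p - 1` is a power of two
  obtain ⟨m, hm⟩ : ∃ m, p - 1 = 2 ^ m := by
    refine ⟨_, Nat.eq_prime_pow_of_unique_prime_dvd (by omega) fun {q} hq hq1 => ?_⟩
    haveI := Fact.mk hq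
    obtain ⟨τ, hτ⟩ := exists_prime_orderOf_dvd_card' (G := G) q
      (hq1.trans (by rw [hG]; exact dvd_mul_of_dvd_left (dvd_mul_left _ _) _))
    have hqp : q ≠ p := fun h => by
      have := Nat.le_of_dvd (by omega) (h ▸ hq1); omega
    obtain ⟨g, hg⟩ := isConj_iff.1 (hconj q hq hq1 τ (fun h => by
      rw [h, orderOf_one] at hτ; exact hq.ne_one hτ.symm) (by rw [hτ])
      (by rw [hτ]; exact fun h => hqp ((Nat.prime_dvd_prime_iff_eq hp.out hq).1 h).symm))
    rw [← hg, ← MulAut.conj_apply, MulEquiv.orderOf_eq, hτ] at hsord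
    exact hsord
  have h2ord : ∀ τ : G, τ ≠ 1 → (∃ k, orderOf τ = 2 ^ k) → IsConj τ s ∧ τ * τ = 1 := by
    intro τ hτ1 ⟨k, hk⟩
    have hk0 : k ≠ 0 := fun h => hτ1 (orderOf_eq_one_iff.1 (by rw [hk, h, pow_zero]))
    have hc : IsConj τ s := hconj 2 Nat.prime_two (by omega) τ hτ1 (hk ▸ dvd_pow_self 2 hk0) (by
      rw [hk]; intro h
      have := (Nat.prime_dvd_prime_iff_eq hp.out Nat.prime_two).1 (hp.out.dvd_of_dvd_pow h)
      omega)
    refine ⟨hc, ?_⟩
    obtain ⟨g, hg⟩ := isConj_iff.1 hc
    have h2 : orderOf τ = 2 := by rw [← hsord, ← hg, ← MulAut.conj_apply, MulEquiv.orderOf_eq]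
    rw [← pow_two, ← h2, pow_orderOf_eq_one]
  have hfac : (Nat.card G).factorization 2 = m := by
    rw [hG, hm, mul_comm p, mul_assoc, Nat.factorization_mul (pow_ne_zero _ two_ne_zero)
      (mul_ne_zero hp.out.ne_zero (by omega)), Finsupp.add_apply,
      Nat.factorization_eq_zero_of_not_dvd (n := p * (p - 2)), add_zero,
      Nat.prime_two.factorization_pow, Finsupp.single_eq_same]
    intro h
    have hodd : ∀ k, k = p ∨ k = p - 2 → ¬ 2 ∣ k := by
      rintro k (rfl | rfl) <;> omega
    rcases (Nat.Prime.dvd_mul Nat.prime_two).1 h with h | h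
    · exact hodd _ (Or.inl rfl) h
    · exact hodd _ (Or.inr rfl) h
  obtain ⟨T⟩ : Nonempty (Sylow 2 G) := inferInstance
  have hT : Nat.card T = 2 ^ m := by rw [T.card_eq_multiplicity, hfac]
  have hTsq : ∀ x : T, x * x = 1 := by
    intro x
    rcases eq_or_ne (x : G) 1 with h | h
    · exact Subtype.ext (by simp [h])
    · obtain ⟨k, hk⟩ := IsPGroup.iff_orderOf.1 T.isPGroup' x
      exact Subtype.ext (h2ord x h ⟨k, by rw [Subgroup.orderOf_coe]; exact hk⟩).2
  refine ⟨m, T, by omega, by omega, hG, hT, ?_, ?_, ?_⟩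
  · intro hcyc
    obtain ⟨g, hg⟩ := hcyc.exists_generator
    have h1 := orderOf_eq_card_of_forall_mem_zpowers hg
    have h2 := Nat.le_of_dvd two_pos (orderOf_dvd_of_pow_eq_one (x := g) (n := 2) (by rw [pow_two, hTsq g]))
    rw [hT] at h1
    omega
  · intro hTn
    -- `u₀` would permute the `p - 2` involutions of `T` freely
    have hTcard : Nat.card (T : Subgroup G) = p - 1 := hT.trans hm.symm
    obtain ⟨τ, hτ⟩ : ∃ τ : (T : Subgroup G), τ ≠ 1 := by
      haveI : Nontrivial (T : Subgroup G) := by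
        rw [← Finite.one_lt_card_iff_nontrivial, hTcard]; omega
      exact exists_ne 1
    let f : ZMod p → {x : (T : Subgroup G) // x ≠ 1} := fun i =>
      ⟨⟨upow u₀ i * τ * (upow u₀ i)⁻¹, hTn.conj_mem _ τ.2 _⟩, fun h =>
        hτ (Subtype.ext (conj_eq_one_iff.1 (congrArg Subtype.val h)))⟩
    have hf : Function.Injective f := by
      intro i j hij
      have h1 : upow u₀ i * τ * (upow u₀ i)⁻¹ = upow u₀ j * τ * (upow u₀ j)⁻¹ :=
        congrArg (fun z => ((z.1 : (T : Subgroup G)) : G)) hij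
      by_contra hne
      have hk : (-j + i) ≠ 0 := by
        rw [neg_add_eq_sub, sub_ne_zero]; exact hne
      have hadd : upow u₀ (-j + i) = (upow u₀ j)⁻¹ * upow u₀ i := by
        rw [← upow_neg S.hu, ← ZMod.natCast_zmod_val (-j), ← ZMod.natCast_zmod_val i, ← Nat.cast_add,
          upow_natCast S.hu, pow_add]
        simp [upow]
      have hcom : Commute (τ : G) (upow u₀ (-j + i)) := by
        show (τ : G) * _ = _ * (τ : G)
        rw [hadd]
        have h3 : (upow u₀ j)⁻¹ * (upow u₀ i * τ * (upow u₀ i)⁻¹) * upow u₀ i =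
            (upow u₀ j)⁻¹ * (upow u₀ j * τ * (upow u₀ j)⁻¹) * upow u₀ i := by rw [h1]
        simpa [mul_assoc] using h3.symm
      have hmem : (τ : G) ∈ Subgroup.zpowers u₀ := by
        rw [← hC, ← S.centralizer_upow hk]
        exact Subgroup.mem_centralizer_singleton_iff.2 hcom
      have h4 := Subgroup.orderOf_dvd_natCard _ hmem
      rw [Nat.card_zpowers, S.hu] at h4
      have h5 : orderOf (τ : G) ∣ 2 := orderOf_dvd_of_pow_eq_one (by
        rw [pow_two]; exact congrArg Subtype.val (hTsq τ))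
      have h6 : orderOf (τ : G) ∣ Nat.gcd p 2 := Nat.dvd_gcd h4 h5
      rw [show Nat.gcd p 2 = 1 from (Nat.coprime_primes hp.out Nat.prime_two).2 (by omega)] at h6
      exact hτ (Subtype.ext (orderOf_eq_one_iff.1 (Nat.dvd_one.1 h6)))
    have h7 := Nat.card_le_card_of_injective f hf
    haveI := Fintype.ofFinite (T : Subgroup G)
    rw [Nat.card_zmod, Nat.card_eq_fintype_card, Fintype.card_subtype_compl, Fintype.card_subtype_eq,
      ← Nat.card_eq_fintype_card, hTcard] at h7
    omega
  · intro t ht2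
    -- the centraliser has order `p - 1`
    obtain ⟨hcs, -⟩ := h2ord t (fun h => by rw [h, orderOf_one] at ht2; omega) ⟨1, by rw [ht2, pow_one]⟩
    obtain ⟨g, hg⟩ := isConj_iff.1 hcs
    have hrow := C.row_sum S hC hs (Subgroup.mem_zpowers s) hs1
    have hfil : ((Finset.univ.erase (1 : Subgroup.zpowers s)).filter
        fun y : Subgroup.zpowers s => IsConj s (y : G)) = {⟨s, Subgroup.mem_zpowers s⟩} := by
      refine Finset.eq_singleton_iff_unique_mem.2 ⟨?_, fun y hy => ?_⟩
      · simp only [Finset.mem_filter, Finset.mem_erase, Finset.mem_univ, and_true]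
        exact ⟨fun h => hs1 (congrArg Subtype.val h), IsConj.refl _⟩
      · exact Subtype.ext (hsx _ y.2 fun h =>
          Finset.ne_of_mem_erase (Finset.mem_filter.1 hy).1 (Subtype.ext h))
    rw [hfil, Finset.card_singleton, mul_one, ← htn,
      show C.t * 2 = 2 ^ m by omega] at hrow
    have hmap : (Subgroup.centralizer ({t} : Set G)).map (MulAut.conj g).toMonoidHom =
        Subgroup.centralizer ({s} : Set G) := by
      ext x
      obtain ⟨x, rfl⟩ := (MulAut.conj g).surjective x
      rw [Subgroup.mem_map_equiv, MulEquiv.symm_apply_apply, Subgroup.mem_centralizer_singleton_iff,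
        Subgroup.mem_centralizer_singleton_iff, ← hg, ← MulAut.conj_apply, ← map_mul, ← map_mul]
      exact (MulAut.conj g).injective.eq_iff.symm
    have hcard : Nat.card (Subgroup.centralizer ({t} : Set G)) = 2 ^ m := by
      rw [← hrow, ← hmap, Subgroup.card_map_of_injective (MulAut.conj g).injective]
    have hsq : ∀ x : Subgroup.centralizer ({t} : Set G), x * x = 1 := by
      intro x
      rcases eq_or_ne (x : G) 1 with h | h
      · exact Subtype.ext (by simp [h])
      · obtain ⟨k, hk⟩ := IsPGroup.iff_orderOf.1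
          (IsPGroup.of_card (p := 2) (n := m) hcard) x
        exact Subtype.ext (h2ord x h ⟨k, by rw [Subgroup.orderOf_coe]; exact hk⟩).2
    exact ⟨⟨⟨commutative_of_sq hsq⟩⟩, fun c hc => by
      rw [pow_two]; exact congrArg Subtype.val (hsq ⟨c, hc⟩)⟩

end CfsgLib.Blocks.OrderP.Perfect
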