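import Cfsg.Agent.Blocks.OrderP.Perfect.Split

/-!
# The complement of a self-centralising Sylow subgroup in its normaliser
-/

set_option autoImplicit false
set_option linter.style.haveILetI false
set_option linter.unusedSectionVars false

namespace CfsgLib.Blocks.OrderP.Perfect

open Cfsg CfsgLib Finset
open scoped ComplexConjugate

universe u

variable {p : ℕ} [hp : Fact p.Prime] {G : Type u} [Group G] [Fintype G] {u₀ : G} {n e : ℕ}

theorem Setup.card_eq (S : Setup p n e u₀)
    (hC : Subgroup.centralizer ({u₀} : Set G) = Subgroup.zpowers u₀) :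
    Nat.card G = p * (e * (1 + n * p)) := by
  rw [← (Subgroup.centralizer ({u₀} : Set G)).card_mul_index, S.centralizer_index, hC,
    Nat.card_zpowers, S.hu]

/-- A complement of order `e`, generated by `s`, acting without fixed points. -/
structure IsComplementGen (p e : ℕ) (u₀ s : G) : Prop where
  order : orderOf s = e
  norm : s ∈ Subgroup.normalizer (Subgroup.zpowers u₀ : Set G)
  free : ∀ x ∈ Subgroup.zpowers s, x ≠ 1 → ¬ Commute x u₀

theorem Setup.exists_complement (S : Setup p n e u₀)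
    (hC : Subgroup.centralizer ({u₀} : Set G) = Subgroup.zpowers u₀) :
    ∃ s : G, IsComplementGen p e u₀ s := by
  classical
  obtain ⟨ψ, -, hker⟩ := exists_normalizer_hom S.hu
  have hcard : Nat.card ψ.range = e := by
    rw [← Subgroup.index_ker, hker]
    exact S.he
  rw [HeightZero.centralizer_zpowers_eq, hC] at hker
  obtain ⟨⟨r, hr⟩, hgen⟩ := IsCyclic.exists_generator (α := ψ.range)
  obtain ⟨n₀, hn₀⟩ := hr
  have hr' : orderOf r = e := by
    rw [← hcard, ← orderOf_eq_card_of_forall_mem_zpowers hgen]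
    exact (Subgroup.orderOf_mk r _).symm
  have hψe : ψ (n₀ ^ e) = 1 := by rw [map_pow, hn₀, ← hr', pow_orderOf_eq_one]
  have hmem : (n₀ : G) ^ e ∈ Subgroup.zpowers u₀ := by
    have := (hker ▸ MonoidHom.mem_ker.2 hψe : n₀ ^ e ∈ (Subgroup.zpowers u₀).subgroupOf _)
    simpa [Subgroup.mem_subgroupOf] using this
  have hC' : ∀ x : G, Commute x u₀ → x ∈ Subgroup.zpowers u₀ := fun x hx =>
    hC ▸ Subgroup.mem_centralizer_singleton_iff.2 hx
  have hne : (n₀ : G) ^ e = 1 := by
    obtain ⟨i, hi⟩ := (mem_zpowers_iff_upow S.hu).1 hmem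
    by_contra h
    have hi0 : i ≠ 0 := fun h0 => h (by rw [hi, h0, upow_zero S.hu])
    have hc : Commute (n₀ : G) u₀ := by
      have h1 : Commute (n₀ : G) (upow u₀ i) := hi ▸ (Commute.refl (n₀ : G)).pow_right e
      have h2 : u₀ ∈ Subgroup.zpowers (upow u₀ i) := by
        rw [zpowers_upow S.hu hi0]; exact Subgroup.mem_zpowers _
      obtain ⟨k, hk⟩ := Subgroup.mem_zpowers_iff.1 h2
      have h4 := h1.zpow_right k
      rwa [hk] at h4
    have h3 : ψ n₀ = 1 := MonoidHom.mem_ker.1 (by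
      rw [hker, Subgroup.mem_subgroupOf]; exact hC' _ hc)
    rw [hn₀] at h3
    rw [h3, orderOf_one] at hr'
    have := S.two_le_e
    omega
  refine ⟨n₀, ?_, n₀.2, fun x hx hx1 hxc => hx1 ?_⟩
  · refine Nat.dvd_antisymm (orderOf_dvd_of_pow_eq_one hne) ?_
    rw [← hr', ← hn₀, Subgroup.orderOf_coe]
    exact orderOf_map_dvd ψ n₀
  · obtain ⟨k, rfl⟩ := Subgroup.mem_zpowers_iff.1 hx
    have h1 : ((n₀ : G) ^ k) ^ e = 1 := by
      rw [← zpow_natCast, zpow_comm, zpow_natCast, hne, one_zpow]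
    have h2 : ((n₀ : G) ^ k) ^ p = 1 := by
      have h := Subgroup.orderOf_dvd_natCard _ (hC' _ hxc)
      rw [Nat.card_zpowers, S.hu] at h
      exact orderOf_dvd_iff_pow_eq_one.1 h
    have hco : Nat.gcd e p = 1 := by
      refine Nat.Coprime.symm ((hp.out.coprime_iff_not_dvd).2 fun h => ?_)
      have h3 := Nat.le_of_dvd S.e_pos h
      have h4 := Nat.le_of_dvd (by have := hp.out.two_le; omega) S.dvd
      have := hp.out.two_le
      omega
    have h3 := pow_gcd_eq_one.2 ⟨h1, h2⟩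
    rwa [hco, pow_one] at h3

variable {s : G}

/-- Elements of the complement are conjugate to their whole coset. -/
theorem IsComplementGen.apply_mul (hs : IsComplementGen p e u₀ s) (hu : orderOf u₀ = p)
    {χ : G → ℂ} (hχ : IsClassFunction G χ) {x : G} (hx : x ∈ Subgroup.zpowers s) (hx1 : x ≠ 1)
    (k : ZMod p) : χ (x * upow u₀ k) = χ x := by
  have hxN : x⁻¹ ∈ Subgroup.normalizer (Subgroup.zpowers u₀ : Set G) :=
    inv_mem (Subgroup.zpowers_le.2 hs.norm hx)
  obtain ⟨r, hr⟩ := (mem_zpowers_iff_upow hu).1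
    ((Subgroup.mem_normalizer_iff.1 hxN u₀).1 (Subgroup.mem_zpowers _))
  rw [inv_inv] at hr
  have hr1 : r ≠ 1 := fun h => by
    rw [h, upow_one hu] at hr
    refine hs.free x hx hx1 ?_
    show x * u₀ = u₀ * x
    calc x * u₀ = x * (x⁻¹ * u₀ * x) := by rw [hr]
      _ = u₀ * x := by group
  have hconj : ∀ j : ZMod p, upow u₀ j * x * (upow u₀ j)⁻¹ = x * upow u₀ ((r - 1) * j) := by
    intro j
    have h1 : x⁻¹ * upow u₀ j * x = upow u₀ (r * j) := by
      have h2 : (x⁻¹ * u₀ * x⁻¹⁻¹) ^ j.val = x⁻¹ * u₀ ^ j.val * x⁻¹⁻¹ := conj_pow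
      rw [inv_inv, hr, upow_pow hu, ZMod.natCast_zmod_val] at h2
      exact h2.symm
    have h3 : upow u₀ (r * j) * (upow u₀ j)⁻¹ = upow u₀ ((r - 1) * j) := by
      rw [← upow_neg hu, show (r - 1) * j = r * j + -j by ring]
      conv_rhs => rw [← ZMod.natCast_zmod_val (r * j), ← ZMod.natCast_zmod_val (-j), ← Nat.cast_add,
        upow_natCast hu, pow_add]
      rfl
    rw [← h3, ← h1]
    group
  have h := hconj (k / (r - 1))
  rw [mul_div_cancel₀ k (sub_ne_zero.2 hr1)] at h
  rw [← h, hχ]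

theorem IsComplementGen.not_dvd_orderOf (hs : IsComplementGen p e u₀ s) (S : Setup p n e u₀)
    {x : G} (hx : x ∈ Subgroup.zpowers s) : ¬ p ∣ orderOf x := fun h => by
  have h1 := h.trans (Subgroup.orderOf_dvd_natCard _ hx)
  rw [Nat.card_zpowers, hs.order] at h1
  have h3 := Nat.le_of_dvd S.e_pos h1
  have h4 := Nat.le_of_dvd (by have := hp.out.two_le; omega) S.dvd
  have := hp.out.two_le
  omega

/-- The fixed-point character on the complement. -/
noncomputable def fixChar (p : ℕ) [Fact p.Prime] (u₀ s : G) (χ : G → ℂ) : Subgroup.zpowers s → ℂ :=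
  fun x => (p : ℂ)⁻¹ * ∑ i : ZMod p, χ ((x : G) * upow u₀ i)

theorem IsComplementGen.isCharacter_fixChar (hs : IsComplementGen p e u₀ s) (hu : orderOf u₀ = p)
    {χ : G → ℂ} (hχ : IsCharacter G χ) : IsCharacter (Subgroup.zpowers s) (fixChar p u₀ s χ) := by
  classical
  have h := isCharacter_average hχ (Subgroup.zpowers u₀) (Subgroup.zpowers s) fun x hx y hy =>
    (Subgroup.mem_normalizer_iff.1 (Subgroup.zpowers_le.2 hs.norm hx) y).1 hy
  convert h using 1
  funext x
  rw [fixChar, Nat.card_zpowers, hu, sum_zpowers hu (fun y => χ ((x : G) * y))]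

theorem IsComplementGen.fixChar_apply (hs : IsComplementGen p e u₀ s) (hu : orderOf u₀ = p)
    {χ : G → ℂ} (hχ : IsClassFunction G χ) {x : Subgroup.zpowers s} (hx : x ≠ 1) :
    fixChar p u₀ s χ x = χ x := by
  rw [fixChar, Finset.sum_congr rfl fun i _ => hs.apply_mul hu hχ x.2
    (fun h => hx (Subtype.ext h)) i, Finset.sum_const, Finset.card_univ, ZMod.card, nsmul_eq_mul,
    ← mul_assoc, inv_mul_cancel₀ (Nat.cast_ne_zero.2 hp.out.ne_zero), one_mul]

theorem fixChar_one (hu : orderOf u₀ = p) (χ : G → ℂ) :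
    fixChar p u₀ s χ 1 =
      (p : ℂ)⁻¹ * (χ 1 + ∑ i ∈ Finset.univ.erase (0 : ZMod p), χ (upow u₀ i)) := by
  rw [fixChar, ← Finset.add_sum_erase _ _ (Finset.mem_univ (0 : ZMod p))]
  simp only [OneMemClass.coe_one, one_mul, upow_zero hu]

end CfsgLib.Blocks.OrderP.Perfect
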