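import Cfsg.Agent.Blocks.OrderP.Perfect.Sign

/-!
# The second configuration with characters of degree `1 + np`: `t = 2`
-/

set_option autoImplicit false
set_option linter.style.haveILetI false
set_option linter.unusedSectionVars false

namespace CfsgLib.Blocks.OrderP.Perfect

open Cfsg CfsgLib Finset
open scoped ComplexConjugate

universe u

open scoped IsMulCommutative in
/-- In a perfect group an element of an abelian Sylow subgroup fixed by its normaliser is trivial. -/
theorem eq_one_of_fixed_of_perfect {G : Type u} [Group G] [Finite G] (hperf : commutator G = ⊤)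
    {q : ℕ} [Fact q.Prime] (P : Sylow q G) [IsMulCommutative (P : Subgroup G)] {x : G}
    (hx : x ∈ (P : Subgroup G))
    (hcen : ∀ m ∈ Subgroup.normalizer ((P : Subgroup G) : Set G), m * x = x * m) : x = 1 := by
  let V : G →* (P : Subgroup G) := MonoidHom.transfer (MonoidHom.id (P : Subgroup G))
  have htriv : ∀ g, V g = 1 := by
    intro g
    exact MonoidHom.mem_ker.1 (Abelianization.commutator_subset_ker V (hperf ▸ Subgroup.mem_top g))
  have key : ∀ (k : ℕ) (g₀ : G), g₀⁻¹ * x ^ k * g₀ ∈ (P : Subgroup G) →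
      g₀⁻¹ * x ^ k * g₀ = x ^ k := by
    intro k g₀ hg
    have hcomm : ∀ u ∈ (P : Subgroup G), u ∈ Subgroup.centralizer ((P : Subgroup G) : Set G) :=
      fun u hu => Subgroup.mem_centralizer_iff.mpr fun v hv => by
        exact congrArg Subtype.val (mul_comm (⟨v, hv⟩ : (P : Subgroup G)) ⟨u, hu⟩)
    obtain ⟨m, hm, h⟩ := P.conj_eq_normalizer_conj_of_mem_centralizer (x ^ k) g₀
      (hcomm _ (pow_mem hx k)) (hcomm _ hg)
    rw [h, mul_assoc, ← ((show Commute m x from hcen m hm).pow_right k).eq, inv_mul_cancel_left]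
  have hV := MonoidHom.transfer_eq_pow (MonoidHom.id (P : Subgroup G)) x key
  change V x = _ at hV
  rw [htriv x] at hV
  have hpow : x ^ (P : Subgroup G).index = 1 := (congrArg Subtype.val hV).symm
  obtain ⟨j, hj⟩ := P.isPGroup' ⟨x, hx⟩
  have hjx : x ^ q ^ j = 1 := congrArg Subtype.val hj
  have hco : Nat.gcd (P : Subgroup G).index (q ^ j) = 1 :=
    ((Nat.Prime.coprime_iff_not_dvd Fact.out).mpr P.not_dvd_index).symm.pow_right j
  simpa [hco] using (pow_gcd_eq_one.mpr ⟨hpow, hjx⟩)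

variable {p : ℕ} [hp : Fact p.Prime] {G : Type u} [Group G] [Fintype G] {u₀ s : G} {n e : ℕ}

open scoped Classical in
theorem CaseTwo.sum_centralizer (C : CaseTwo p n e u₀) (S : Setup p n e u₀)
    (hC : Subgroup.centralizer ({u₀} : Set G) = Subgroup.zpowers u₀)
    (hs : IsComplementGen p e u₀ s) :
    ∑ x ∈ Finset.univ.erase (1 : Subgroup.zpowers s),
        Nat.card (Subgroup.centralizer ({(x : G)} : Set G)) = C.t * e * (C.MA.card + 1) := by
  obtain ⟨θ, hθ⟩ := C.Y_nonempty
  obtain ⟨hK, htn, he⟩ := C.K_eq_one S hC hs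
  set E := Subgroup.zpowers s
  have hcardE : Fintype.card E = e := by
    rw [← Nat.card_eq_fintype_card, Nat.card_zpowers, hs.order]
  have hmom : ∀ χ : IrrCharacter G, χ ∈ C.MA ∨ χ ∈ C.Y →
      ∑ x ∈ Finset.univ.erase (1 : E), (χ : G → ℂ) x * conj ((χ : G → ℂ) x) =
        (e : ℂ) * fixChar p u₀ s (χ : G → ℂ) 1 -
          fixChar p u₀ s (χ : G → ℂ) 1 * conj (fixChar p u₀ s (χ : G → ℂ) 1) := by
    intro χ hχ
    rw [← (C.fix_moments S hC hs hχ).2,
      ← Finset.add_sum_erase Finset.univ _ (Finset.mem_univ (1 : E)), add_sub_cancel_left]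
    exact Finset.sum_congr rfl fun x hx => by
      rw [hs.fixChar_apply S.hu (Chars.isClassFunction_coe χ) (Finset.ne_of_mem_erase hx)]
  have h1 : ∀ x ∈ Finset.univ.erase (1 : E),
      ((Nat.card (Subgroup.centralizer ({(x : G)} : Set G)) : ℕ) : ℂ) =
        1 + (n : ℂ) + ∑ χ ∈ C.MA, (χ : G → ℂ) x * conj ((χ : G → ℂ) x) +
          (C.t : ℂ) * ((θ : G → ℂ) x * conj ((θ : G → ℂ) x)) := by
    intro x hx
    have h := Chars.sum_irr_mul_conj (x : G) (x : G)
    rw [if_pos (IsConj.refl _)] at h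
    rw [← h]
    exact C.column S hC hs x.2 (fun h => Finset.ne_of_mem_erase hx (Subtype.ext h)) x.2
      (fun h => Finset.ne_of_mem_erase hx (Subtype.ext h)) hθ
  refine Nat.cast_injective (R := ℂ) ?_
  rw [Nat.cast_sum, Finset.sum_congr rfl h1, Finset.sum_add_distrib, Finset.sum_add_distrib,
    Finset.sum_const, Finset.card_erase_of_mem (Finset.mem_univ _), Finset.card_univ, hcardE,
    nsmul_eq_mul, Finset.sum_comm, ← Finset.mul_sum, hmom θ (Or.inr hθ), C.fix_Y S hC hs hθ, hK,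
    Finset.sum_congr rfl fun χ (hχ : χ ∈ C.MA) => by rw [hmom χ (Or.inl hχ), C.fix_MA S hC hs hχ],
    Finset.sum_const, nsmul_eq_mul, Nat.cast_sub (by have := S.e_pos; omega)]
  have he' : (e : ℂ) = C.MA.card * C.t + 2 := by exact_mod_cast he
  have htn' : (C.t : ℂ) = n + 1 := by exact_mod_cast htn
  push_cast
  simp only [map_add, Complex.conj_natCast, map_one]
  linear_combination (C.t : ℂ) * he' -
    ((e : ℂ) - 1 + C.MA.card * e - C.MA.card * ((n : ℂ) + 1 + C.t)) * htn'

/-- With characters of degree `1 + np` the exceptional characters are at most two. -/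
theorem CaseTwo.t_le_two (C : CaseTwo p n e u₀) (S : Setup p n e u₀)
    (hC : Subgroup.centralizer ({u₀} : Set G) = Subgroup.zpowers u₀)
    (hs : IsComplementGen p e u₀ s) (ha : C.MA.Nonempty) : C.t ≤ 2 := by
  classical
  by_contra ht
  have ht3 : 3 ≤ C.t := by omega
  haveI : Fact (Nat.Prime 2) := ⟨Nat.prime_two⟩
  obtain ⟨hK, htn, he⟩ := C.K_eq_one S hC hs
  obtain ⟨θ, hθ⟩ := C.Y_nonempty
  obtain ⟨heven, hθpow⟩ := C.apply_pow S hC hs hθ
  have hD := C.deg_Y_add S hC hs hθ
  have hM := C.t_mul_deg S hC hs hθ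
  have hpte := C.p_eq S hC hs
  set D := charDegree (θ : G → ℂ)
  set a := C.MA.card
  have hapos : 1 ≤ a := Finset.card_pos.2 ha
  have he5 : 5 ≤ e := by
    have : C.t ≤ a * C.t := Nat.le_mul_of_pos_left _ hapos
    omega
  obtain ⟨f, hf⟩ := heven
  have hef : e = 2 * f := by omega
  set E := Subgroup.zpowers s
  have hEcard : Nat.card E = e := by rw [Nat.card_zpowers, hs.order]
  have hpow : ∀ x ∈ E, ∃ k : ℕ, x = s ^ k := fun x hx => by
    obtain ⟨k, hk⟩ := Submonoid.mem_powers_iff _ _ |>.1 (mem_powers_iff_mem_zpowers.2 hx)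
    exact ⟨k, hk.symm⟩
  set z := s ^ f
  have hzE : z ∈ E := pow_mem (Subgroup.mem_zpowers s) f
  have hz1 : z ≠ 1 := fun h => by
    have := Nat.le_of_dvd (by omega) (orderOf_dvd_of_pow_eq_one h)
    rw [hs.order] at this
    omega
  have hz2 : z * z = 1 := by
    show s ^ f * s ^ f = 1
    rw [← pow_add, show f + f = orderOf s by rw [hs.order]; omega, pow_orderOf_eq_one]
  have hsq : ∀ x ∈ E, x * x = 1 → x = 1 ∨ x = z := by
    intro x hx hxx
    obtain ⟨k, rfl⟩ := hpow x hx
    rw [← pow_add] at hxx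
    have h1 := orderOf_dvd_of_pow_eq_one hxx
    rw [hs.order, hef, show k + k = 2 * k by omega] at h1
    obtain ⟨j, rfl⟩ := Nat.dvd_of_mul_dvd_mul_left two_pos h1
    rw [pow_mul]
    show z ^ j = 1 ∨ z ^ j = z
    rcases Nat.even_or_odd j with ⟨i, rfl⟩ | ⟨i, rfl⟩
    · left; rw [← two_mul, pow_mul, pow_two, hz2, one_pow]
    · right; rw [pow_succ, pow_mul, pow_two, hz2, one_pow, one_mul]
  -- the centralisers
  set zE : E := ⟨z, hzE⟩
  have hrow := C.row_sum S hC hs hzE hz1
  have hfil : ((Finset.univ.erase (1 : E)).filter fun y : E => IsConj z (y : G)) = {zE} := by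
    refine Finset.eq_singleton_iff_unique_mem.2 ⟨?_, fun y hy => ?_⟩
    · simp only [Finset.mem_filter, Finset.mem_erase, Finset.mem_univ, and_true]
      exact ⟨fun h => hz1 (congrArg Subtype.val h), IsConj.refl _⟩
    · obtain ⟨h1, h2⟩ := Finset.mem_filter.1 hy
      obtain ⟨g, hg⟩ := isConj_iff.1 h2
      refine Subtype.ext ((hsq _ y.2 ?_).resolve_left fun h => Finset.ne_of_mem_erase h1 (Subtype.ext h))
      rw [← hg, conj_mul, hz2, mul_one, mul_inv_cancel]
  rw [hfil, Finset.card_singleton, mul_one, ← htn] at hrow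
  have hge : ∀ x : E, e ≤ Nat.card (Subgroup.centralizer ({(x : G)} : Set G)) := by
    intro x
    rw [← hEcard]
    refine Nat.card_le_card_of_injective (fun y : E => (⟨(y : G),
      Subgroup.mem_centralizer_singleton_iff.2 ?_⟩ :
        Subgroup.centralizer ({(x : G)} : Set G))) fun a b h => Subtype.ext (congrArg (fun c : Subgroup.centralizer ({(x : G)} : Set G) => (c : G)) h)
    obtain ⟨i, hi⟩ := hpow _ x.2
    obtain ⟨j, hj⟩ := hpow _ y.2
    rw [hi, hj]
    exact ((Commute.refl s).pow_pow j i).eq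
  have hsum := C.sum_centralizer S hC hs
  have hzmem : zE ∈ Finset.univ.erase (1 : E) :=
    Finset.mem_erase.2 ⟨fun h => hz1 (congrArg Subtype.val h), Finset.mem_univ _⟩
  rw [← Finset.add_sum_erase _ _ hzmem] at hsum
  have hothers : ∀ x ∈ (Finset.univ.erase (1 : E)).erase zE,
      Nat.card (Subgroup.centralizer ({(x : G)} : Set G)) = e := by
    intro x hx
    by_contra hne
    have hlt : ∑ _y ∈ (Finset.univ.erase (1 : E)).erase zE, e <
        ∑ y ∈ (Finset.univ.erase (1 : E)).erase zE,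
          Nat.card (Subgroup.centralizer ({(y : G)} : Set G)) :=
      Finset.sum_lt_sum (fun y _ => hge y) ⟨x, hx, lt_of_le_of_ne (hge x) (Ne.symm hne)⟩
    rw [Finset.sum_const, smul_eq_mul, Finset.card_erase_of_mem hzmem,
      Finset.card_erase_of_mem (Finset.mem_univ _), Finset.card_univ, ← Nat.card_eq_fintype_card,
      hEcard, show e - 1 - 1 = a * C.t by omega] at hlt
    have h3 : C.t * e * (a + 1) = C.t * e + a * C.t * e := by ring
    rw [show Nat.card (Subgroup.centralizer ({((zE : E) : G)} : Set G)) = C.t * e from hrow, h3] at hsum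
    omega
  have hcen : ∀ x ∈ E, x ≠ 1 → x ≠ z → Subgroup.centralizer ({x} : Set G) = E := by
    intro x hx h1 hzx
    refine (Subgroup.eq_of_le_of_card_ge ?_ ?_).symm
    · refine Subgroup.zpowers_le.2 (Subgroup.mem_centralizer_singleton_iff.2 ?_)
      obtain ⟨i, rfl⟩ := hpow x hx
      exact ((Commute.refl s).pow_right i).eq
    · rw [hEcard]
      exact (hothers ⟨x, hx⟩ (Finset.mem_erase.2 ⟨fun h => hzx (congrArg Subtype.val h),
        Finset.mem_erase.2 ⟨fun h => h1 (congrArg Subtype.val h), Finset.mem_univ _⟩⟩)).le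
  -- `f` is odd
  have hfodd : ¬ 2 ∣ f := by
    rintro ⟨g, hg⟩
    set x := s ^ g
    have hxx : x * x = z := by show s ^ g * s ^ g = s ^ f; rw [← pow_add]; congr 1; omega
    have hx1 : x ≠ 1 := fun h => hz1 (by rw [← hxx, h, mul_one])
    have hxz : x ≠ z := fun h => hz1 (by rw [← hz2]; nth_rw 1 [← hxx]; rw [h])
    have hxE : x ∈ E := pow_mem (Subgroup.mem_zpowers s) g
    have h := C.row_sum S hC hs hxE hx1
    rw [hcen x hxE hx1 hxz, hEcard, ← htn] at h
    have hle : ((Finset.univ.erase (1 : E)).filter fun y : E => IsConj x (y : G)) ⊆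
        {⟨x, hxE⟩, ⟨x * z, mul_mem hxE hzE⟩} := by
      intro y hy
      obtain ⟨h1, h2⟩ := Finset.mem_filter.1 hy
      obtain ⟨c, hc⟩ := isConj_iff.1 h2
      obtain ⟨i, hi⟩ := hpow _ y.2
      have hy2 : (y : G) * y = z := by
        have h3 : (y : G) * y * ((y : G) * y) = 1 := by
          rw [← hc, conj_mul, conj_mul, hxx, hz2, mul_one, mul_inv_cancel]
        refine (hsq _ (mul_mem y.2 y.2) h3).resolve_left fun h4 => ?_
        rw [← hc, conj_mul, hxx, conj_eq_one_iff] at h4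
        exact hz1 h4
      have hcom : Commute x (y : G) := by rw [hi]; exact ((Commute.refl s).pow_pow g i)
      have h5 : x⁻¹ * (y : G) * (x⁻¹ * (y : G)) = 1 := by
        rw [(hcom.inv_left.symm).mul_mul_mul_comm, hy2, ← mul_inv_rev, hxx, inv_mul_cancel]
      simp only [Finset.mem_insert, Finset.mem_singleton]
      rcases hsq _ (mul_mem (inv_mem hxE) y.2) h5 with h6 | h6
      · exact Or.inl (Subtype.ext (inv_mul_eq_one.1 h6).symm)
      · exact Or.inr (Subtype.ext (eq_mul_of_inv_mul_eq h6))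
    have hc2 := Finset.card_le_card hle
    have hm2 : ({⟨x, hxE⟩, ⟨x * z, mul_mem hxE hzE⟩} : Finset E).card ≤ 2 := Finset.card_le_two
    rw [mul_comm] at h
    have h4 := Nat.eq_of_mul_eq_mul_right S.e_pos h
    have h7 : C.t ≤ 2 := by
      rw [← h4]
      exact le_trans (Finset.card_le_card (by convert hle)) hm2
    omega
  have hθz : (θ : G → ℂ) z = -1 := by
    rw [hθpow f hz1]
    exact (Nat.odd_iff.2 (by omega)).neg_one_pow
  -- `t` is a power of two
  have hG : Nat.card G = p * (e * (C.t * D)) := by rw [S.card_eq hC, hM]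
  have hqodd : ∀ q : ℕ, q.Prime → q ∣ C.t → q = 2 := by
    intro q hq hqt
    by_contra hq2
    haveI := Fact.mk hq
    have hqe : ¬ q ∣ e := fun h => by
      have h1 : q ∣ 2 := by
        rw [he] at h
        exact (Nat.dvd_add_right (dvd_mul_of_dvd_right hqt _)).1 h
      exact hq2 ((Nat.prime_dvd_prime_iff_eq hq Nat.prime_two).1 h1)
    have hqp : q ≠ p := fun h => by
      have h2 : C.t * 1 < C.t * e := Nat.mul_lt_mul_of_pos_left (by omega) (by omega)
      have := Nat.le_of_dvd (by omega) (h ▸ hqt)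
      omega
    have hqD : ¬ q ∣ D := fun h => by
      have h1 : q ∣ 1 := by
        have h2 : D + (a * C.t + 1) = C.t * e := by omega
        have h3 : q ∣ D + (a * C.t + 1) := h2 ▸ dvd_mul_of_dvd_left hqt _
        exact (Nat.dvd_add_right (dvd_mul_of_dvd_right hqt _)).1 ((Nat.dvd_add_right h).1 h3)
      exact hq.ne_one (Nat.dvd_one.1 h1)
    obtain ⟨τ, hτ⟩ := exists_prime_orderOf_dvd_card' (G := G) q
      (by rw [hG]; exact dvd_mul_of_dvd_right (dvd_mul_of_dvd_right (dvd_mul_of_dvd_left hqt _) _) _)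
    have hτ1 : τ ≠ 1 := fun h => by rw [h, orderOf_one] at hτ; exact hq.ne_one hτ.symm
    have hqp' : ¬ q ∣ p := fun h => hqp ((Nat.prime_dvd_prime_iff_eq hq hp.out).1 h)
    have hc := C.isConj_of_vanish S hC hs hθ hτ1 (by
        rw [hτ]; exact fun h => hqp ((Nat.prime_dvd_prime_iff_eq hp.out hq).1 h).symm)
      (fun χ hχ => apply_eq_zero_of_codegree hq χ (r := p * e)
        (by rw [C.degMA χ hχ, ← hM, hG]; ring)
        (fun h => ((Nat.Prime.dvd_mul hq).1 h).elim hqp' hqe) (by rw [hτ]))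
      (fun χ hχ => apply_eq_zero_of_codegree hq χ (r := p * D)
        (by rw [C.degBP χ hχ, hG, show p - 1 = C.t * e by omega]; ring)
        (fun h => ((Nat.Prime.dvd_mul hq).1 h).elim hqp' hqD) (by rw [hτ]))
      hzE hz1 hθz
    obtain ⟨g, hg⟩ := isConj_iff.1 hc
    have hzord : orderOf z = 2 := orderOf_eq_prime (by rw [pow_two, hz2]) hz1
    rw [← hg, ← MulAut.conj_apply, MulEquiv.orderOf_eq, hτ] at hzord
    exact hq2 hzord
  obtain ⟨k, hk⟩ : ∃ k, C.t = 2 ^ k :=
    ⟨_, Nat.eq_prime_pow_of_unique_prime_dvd (by omega) fun {q} hq hqt => hqodd q hq hqt⟩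
  have hk2 : 2 ≤ k := by
    by_contra h
    have : C.t ≤ 2 ^ 1 := hk ▸ Nat.pow_le_pow_right two_pos (by omega)
    omega
  -- the normaliser of `E` centralises `z`
  set N := Subgroup.normalizer (E : Set G)
  obtain ⟨hNcard, -⟩ := C.card_normalizer S hC hs
  rw [← htn] at hNcard
  have hNz : ∀ g ∈ N, g * z * g⁻¹ = z := fun g hg => by
    have h1 : g * z * g⁻¹ ∈ E := (Subgroup.mem_normalizer_iff.1 hg z).1 hzE
    refine (hsq _ h1 ?_).resolve_left fun h => hz1 (conj_eq_one_iff.1 h)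
    rw [conj_mul, hz2, mul_one, mul_inv_cancel]
  -- a prime divisor of the odd part
  have hf3 : 3 ≤ f := by omega
  set r := f.minFac
  have hr : r.Prime := Nat.minFac_prime (by omega)
  haveI := Fact.mk hr
  obtain ⟨f', hf'⟩ : r ∣ f := Nat.minFac_dvd f
  have hr2 : r ≠ 2 := fun h => hfodd (h ▸ Nat.minFac_dvd f)
  set x₀ := s ^ (2 * f')
  have hx₀E : x₀ ∈ E := pow_mem (Subgroup.mem_zpowers s) _
  have hx₀ord : orderOf x₀ = r := by
    show orderOf (s ^ (2 * f')) = r
    have hef' : e = 2 * f' * r := by rw [hef, hf']; ring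
    rw [orderOf_pow, hs.order, hef', Nat.gcd_eq_right (dvd_mul_right _ _),
      Nat.mul_div_cancel_left r (by
        rcases Nat.eq_zero_or_pos f' with h | h
        · rw [h, mul_zero] at hf'; omega
        · omega)]
  have hx₀1 : x₀ ≠ 1 := fun h => by rw [h, orderOf_one] at hx₀ord; exact hr.ne_one hx₀ord.symm
  have hx₀z : x₀ ≠ z := fun h => by
    have h1 : orderOf z = 2 := orderOf_eq_prime (by rw [pow_two, hz2]) hz1
    rw [← h, hx₀ord] at h1
    exact hr2 h1
  have hNx : N ≤ Subgroup.normalizer (Subgroup.zpowers x₀ : Set G) := by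
    intro g hg
    rw [Subgroup.mem_normalizer_iff_map_conj_eq]
    refine Subgroup.eq_of_le_of_card_ge ?_ (by
      rw [Subgroup.card_map_of_injective (MulAut.conj g).injective])
    rw [Subgroup.map_le_iff_le_comap, Subgroup.zpowers_le, Subgroup.mem_comap]
    show g * x₀ * g⁻¹ ∈ Subgroup.zpowers x₀
    obtain ⟨i, hi⟩ := hpow _ ((Subgroup.mem_normalizer_iff.1 hg x₀).1 hx₀E)
    have h1 : (g * x₀ * g⁻¹) ^ r = 1 := by rw [conj_pow, ← hx₀ord, pow_orderOf_eq_one]; group
    rw [hi, ← pow_mul] at h1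
    have h2 := orderOf_dvd_of_pow_eq_one h1
    rw [hs.order, hef, hf', show 2 * (r * f') = 2 * f' * r by ring] at h2
    obtain ⟨j, rfl⟩ := Nat.dvd_of_mul_dvd_mul_right hr.pos h2
    rw [hi, pow_mul]
    exact pow_mem (Subgroup.mem_zpowers _) _
  obtain ⟨ψ, -, hψker⟩ := exists_normalizer_hom (p := r) hx₀ord
  let φ : N →* (ZMod r)ˣ := ψ.comp (Subgroup.inclusion hNx)
  have hφ : ∀ x : N, φ x = 1 ↔ (x : G) ∈ E := by
    intro x
    show ψ _ = 1 ↔ _
    rw [← MonoidHom.mem_ker, hψker, Subgroup.mem_subgroupOf, HeightZero.centralizer_zpowers_eq,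
      hcen x₀ hx₀E hx₀1 hx₀z]
    rfl
  -- a Sylow 2-subgroup inside `N`
  have hDodd : ¬ 2 ∣ D := by
    have h1 : 2 ∣ C.t * e := dvd_mul_of_dvd_right ⟨f, hef⟩ _
    omega
  have hpodd : ¬ 2 ∣ p := by
    have h1 : 2 ∣ C.t * e := dvd_mul_of_dvd_right ⟨f, hef⟩ _
    omega
  obtain ⟨Q⟩ : Nonempty (Sylow 2 N) := inferInstance
  have hQcard : Nat.card Q = 2 ^ (k + 1) := by
    rw [Q.card_eq_multiplicity, hNcard, hk, hef, show 2 ^ k * (2 * f) = 2 ^ (k + 1) * f by ring,
      Nat.factorization_mul (pow_ne_zero _ two_ne_zero) (by omega), Finsupp.add_apply,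
      Nat.factorization_eq_zero_of_not_dvd hfodd, add_zero, Nat.prime_two.factorization_pow,
      Finsupp.single_eq_same]
  set A₀ := (Q : Subgroup N).map N.subtype
  have hA₀card : Nat.card A₀ = 2 ^ (k + 1) := by
    rw [Subgroup.card_map_of_injective N.subtype_injective]; exact hQcard
  have hA₀idx : ¬ 2 ∣ A₀.index := by
    intro h
    obtain ⟨j, hj⟩ := h
    have h1 := A₀.card_mul_index
    rw [hA₀card, hj, hG, hk, hef] at h1
    have h2 : 2 ^ (k + 1) * (2 * j) = 2 ^ (k + 1) * (p * f * D) := by rw [h1]; ring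
    have h3 := Nat.eq_of_mul_eq_mul_left (pow_pos two_pos _) h2
    have h4 : 2 ∣ p * f * D := ⟨j, h3.symm⟩
    rcases (Nat.Prime.dvd_mul Nat.prime_two).1 h4 with h4 | h4
    · rcases (Nat.Prime.dvd_mul Nat.prime_two).1 h4 with h4 | h4
      · exact hpodd h4
      · exact hfodd h4
    · exact hDodd h4
  let A : Sylow 2 G := (IsPGroup.of_card hA₀card).toSylow hA₀idx
  have hAN : ∀ x ∈ (A : Subgroup G), x ∈ N := by
    rintro x ⟨y, -, rfl⟩; exact y.2
  have hzA : ∀ x ∈ (A : Subgroup G), x ∈ E → x = 1 ∨ x = z := by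
    intro x hx hxE
    refine hsq x hxE ?_
    have h1 := Subgroup.orderOf_dvd_natCard _ hx
    rw [show Nat.card (A : Subgroup G) = 2 ^ (k + 1) from hA₀card] at h1
    have h2 := Subgroup.orderOf_dvd_natCard _ hxE
    rw [hEcard, hef] at h2
    have h3 : orderOf x ∣ 2 := by
      have hco : Nat.Coprime (orderOf x) f := Nat.Coprime.coprime_dvd_left h1
        (Nat.Coprime.pow_left _ ((Nat.Prime.coprime_iff_not_dvd Nat.prime_two).2 hfodd))
      exact hco.dvd_of_dvd_mul_right h2
    rw [← pow_two]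
    exact orderOf_dvd_iff_pow_eq_one.1 h3
  -- the image is cyclic
  let φA : (A : Subgroup G) →* (ZMod r)ˣ := φ.comp (Subgroup.inclusion hAN)
  obtain ⟨⟨c, hc⟩, hgen⟩ := IsCyclic.exists_generator (α := φA.range)
  obtain ⟨g, rfl⟩ := hc
  have hdec : ∀ x ∈ (A : Subgroup G), ∃ i : ℤ, x = (g : G) ^ i ∨ x = (g : G) ^ i * z := by
    intro x hx
    obtain ⟨i, hi⟩ := Subgroup.mem_zpowers_iff.1 (hgen ⟨φA ⟨x, hx⟩, ⟨_, rfl⟩⟩)
    have hi' : φA g ^ i = φA ⟨x, hx⟩ := congrArg Subtype.val hi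
    have h1 : φA ((g ^ i)⁻¹ * ⟨x, hx⟩) = 1 := by rw [map_mul, map_inv, map_zpow, hi', inv_mul_cancel]
    have h2 := (hφ _).1 h1
    rcases hzA _ (SetLike.coe_mem ((g ^ i)⁻¹ * ⟨x, hx⟩)) h2 with h3 | h3
    · exact ⟨i, Or.inl (by simpa [inv_mul_eq_one, eq_comm] using h3)⟩
    · exact ⟨i, Or.inr (by simpa using eq_mul_of_inv_mul_eq h3)⟩
  have hgz : Commute (g : G) z :=
    mul_inv_eq_iff_eq_mul.1 (hNz _ (hAN _ g.2))
  haveI : IsMulCommutative (A : Subgroup G) := by
    refine ⟨⟨fun x y => Subtype.ext ?_⟩⟩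
    show (x : G) * y = y * x
    obtain ⟨i, hi⟩ := hdec x x.2
    obtain ⟨j, hj⟩ := hdec y y.2
    have c1 : Commute ((g : G) ^ i) ((g : G) ^ j) := (Commute.refl _).zpow_zpow i j
    have c2 : ∀ l : ℤ, Commute ((g : G) ^ l) z := fun l => hgz.zpow_left l
    rcases hi with hi | hi <;> rcases hj with hj | hj <;> rw [hi, hj]
    · exact c1
    · exact c1.mul_right (c2 i)
    · exact c1.mul_left (c2 j).symm
    · exact (c1.mul_right (c2 i)).mul_left ((c2 j).symm.mul_right (Commute.refl z))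
  -- an involution fixed by the normaliser
  have hkerle : Nat.card φA.ker ≤ 2 := by
    have hinj : Function.Injective (fun x : φA.ker =>
        decide (((x : (A : Subgroup G)) : G) = 1)) := by
      intro a b hab
      rcases hzA _ (a : (A : Subgroup G)).2 ((hφ _).1 (MonoidHom.mem_ker.1 a.2)) with ha | ha <;>
        rcases hzA _ (b : (A : Subgroup G)).2 ((hφ _).1 (MonoidHom.mem_ker.1 b.2)) with hb | hb
      · exact Subtype.ext (Subtype.ext (ha.trans hb.symm))
      · simp only [ha, hb, decide_eq_decide] at hab; exact absurd (hab.1 trivial) hz1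
      · simp only [ha, hb, decide_eq_decide] at hab; exact absurd (hab.2 trivial) hz1
      · exact Subtype.ext (Subtype.ext (ha.trans hb.symm))
    exact (Nat.card_le_card_of_injective _ hinj).trans (by simp)
  have hrange : 4 ≤ orderOf (g : G) := by
    have h1 : orderOf (φA g) = Nat.card φA.range :=
      (Subgroup.orderOf_coe (⟨φA g, g, rfl⟩ : φA.range)).trans
        (orderOf_eq_card_of_forall_mem_zpowers hgen)
    have h2 := φA.ker.card_mul_index
    rw [Subgroup.index_ker, show Nat.card (A : Subgroup G) = 2 ^ (k + 1) from hA₀card, ← h1] at h2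
    have h3 : orderOf (φA g) ≤ orderOf (g : G) := by
      rw [Subgroup.orderOf_coe]
      exact Nat.le_of_dvd (orderOf_pos _) (orderOf_map_dvd φA g)
    have h4 : 2 ^ 3 ≤ 2 ^ (k + 1) := Nat.pow_le_pow_right two_pos (by omega)
    have h5 : Nat.card φA.ker * orderOf (φA g) ≤ 2 * orderOf (φA g) := Nat.mul_le_mul_right _ hkerle
    omega
  obtain ⟨R, hR⟩ := IsPGroup.iff_orderOf.1 A.isPGroup' g
  rw [← Subgroup.orderOf_coe] at hR
  have hR2 : 2 ≤ R := by
    by_contra h
    have : orderOf (g : G) ≤ 2 ^ 1 := hR ▸ Nat.pow_le_pow_right two_pos (by omega)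
    omega
  set w := (g : G) ^ 2 ^ (R - 1) with hw
  have hw1 : w ≠ 1 := fun h => by
    have h1 := Nat.le_of_dvd (pow_pos two_pos _) (orderOf_dvd_of_pow_eq_one h)
    rw [hR] at h1
    have := Nat.pow_lt_pow_right (a := 2) one_lt_two (show R - 1 < R by omega)
    omega
  have hw2 : w * w = 1 := by
    rw [← pow_add, ← two_mul, ← pow_succ', show R - 1 + 1 = R by omega, ← hR, pow_orderOf_eq_one]
  refine hw1 (eq_one_of_fixed_of_perfect S.perfect A (pow_mem g.2 _) fun m hm => ?_)
  have hmem : m * (g : G) * m⁻¹ ∈ (A : Subgroup G) :=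
    (Subgroup.mem_normalizer_iff.1 hm _).1 g.2
  have hzpow : z ^ 2 ^ (R - 1) = 1 := by
    rw [show R - 1 = R - 2 + 1 by omega, pow_succ', pow_mul, pow_two, hz2, one_pow]
  obtain ⟨i, hi⟩ := hdec _ hmem
  have hconj : m * w * m⁻¹ = w ^ i := by
    rw [hw, ← conj_pow]
    rcases hi with hi | hi <;> rw [hi]
    · rw [← zpow_natCast, ← zpow_mul, mul_comm, zpow_mul, zpow_natCast]
    · rw [(hgz.zpow_left i).mul_pow, hzpow, mul_one, ← zpow_natCast, ← zpow_mul, mul_comm,
        zpow_mul, zpow_natCast]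
  have hwi : w ^ i = w := by
    have hne : w ^ i ≠ 1 := fun h => by rw [h, conj_eq_one_iff] at hconj; exact hw1 hconj
    rcases Int.even_or_odd i with ⟨j, rfl⟩ | ⟨j, rfl⟩
    · exfalso; apply hne
      rw [← two_mul, zpow_mul, zpow_two, hw2, one_zpow]
    · rw [zpow_add, zpow_mul, zpow_two, hw2, one_zpow, one_mul, zpow_one]
  rw [hwi] at hconj
  exact mul_inv_eq_iff_eq_mul.1 hconj

end CfsgLib.Blocks.OrderP.Perfect
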