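import Cfsg.Agent.Blocks.OrderP.Perfect.Complement
import Cfsg.Agent.ZassAbelian.Final
import Cfsg.Agent.ZassAbelian.Main

/-!
# Perfect groups with `p + 1` Sylow subgroups of order `p` and self-centralising generator
-/

set_option autoImplicit false
set_option linter.style.haveILetI false
set_option linter.unusedSectionVars false

namespace CfsgLib.Blocks.OrderP.Perfect

open Cfsg CfsgLib
open scoped commutatorElement

universe u

variable {p : ℕ} [hp : Fact p.Prime] {G : Type u} [Group G] [Fintype G] {u₀ : G} {e : ℕ}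

/-- With `p + 1` Sylow subgroups and `2e + 1 = p` the group is `PSL(2, p)`. -/
theorem recognise_psl (S : Setup p 1 e u₀)
    (hC : Subgroup.centralizer ({u₀} : Set G) = Subgroup.zpowers u₀) (he : 2 * e + 1 = p) :
    Nat.card G = p * e * (p + 1) ∧
      ∃ (F : Type) (_ : Field F) (_ : Fintype F), Fintype.card F = p ∧
        Nonempty (G ≃* Matrix.ProjectiveSpecialLinearGroup (Fin 2) F) := by
  classical
  have he2 := S.two_le_e
  have hG : Nat.card G = p * e * (p + 1) := by rw [S.card_eq hC]; ring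
  refine ⟨hG, ?_⟩
  have hPgrp : IsPGroup p (Subgroup.zpowers u₀) :=
    IsPGroup.of_card (n := 1) (by rw [Nat.card_zpowers, S.hu, pow_one])
  let P₀ : Sylow p G := hPgrp.toSylow S.hidx
  have hP₀ : (P₀ : Subgroup G) = Subgroup.zpowers u₀ := rfl
  have hPcard : ∀ Q : Sylow p G, Nat.card (Q : Subgroup G) = p := by
    intro Q
    rw [Q.card_eq_multiplicity, ← P₀.card_eq_multiplicity]
    show Nat.card (Subgroup.zpowers u₀) = p
    rw [Nat.card_zpowers, S.hu]
  have hΩ : Nat.card (Sylow p G) = p + 1 := by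
    rw [Sylow.card_eq_index_normalizer P₀]
    show (Subgroup.normalizer (Subgroup.zpowers u₀ : Set G)).index = p + 1
    rw [S.hn]; ring
  have hfree : ∀ v ∈ Subgroup.zpowers u₀, ∀ y : Sylow p G, y ≠ P₀ → v • y = y → v = 1 := by
    intro v hv y hy hvy
    by_contra hv1
    have h1 : v ∈ Subgroup.normalizer ((y : Subgroup G) : Set G) :=
      Sylow.smul_eq_iff_mem_normalizer.1 hvy
    have h2 : v ∈ (y : Subgroup G) := by
      have h3 : v ∈ Subgroup.zpowers u₀ ⊓ Subgroup.normalizer ((y : Subgroup G) : Set G) := ⟨hv, h1⟩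
      have h4 : Subgroup.zpowers u₀ ⊓ Subgroup.normalizer ((y : Subgroup G) : Set G) =
          Subgroup.zpowers u₀ ⊓ (y : Subgroup G) := hPgrp.inf_normalizer_sylow y
      rw [h4] at h3
      exact h3.2
    obtain ⟨i, rfl⟩ := (mem_zpowers_iff_upow S.hu).1 hv
    have hi : i ≠ 0 := fun h => hv1 (h ▸ upow_zero S.hu)
    refine hy (Sylow.ext ?_)
    rw [hP₀, ← zpowers_upow S.hu hi]
    exact (Subgroup.eq_of_le_of_card_ge (Subgroup.zpowers_le.2 h2)
      (by rw [Nat.card_zpowers, orderOf_upow S.hu hi, hPcard])).symm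
  have hfix : ∀ v ∈ Subgroup.zpowers u₀, v • P₀ = P₀ := fun v hv =>
    Sylow.smul_eq_iff_mem_normalizer.2 (Subgroup.le_normalizer hv)
  haveI := Fintype.ofFinite (Sylow p G)
  have hreg : ∀ y z : Sylow p G, y ≠ P₀ → z ≠ P₀ → ∃ v ∈ Subgroup.zpowers u₀, v • y = z := by
    intro y z hy hz
    let f : Subgroup.zpowers u₀ → {x : Sylow p G // x ≠ P₀} := fun v =>
      ⟨(v : G) • y, fun h => hy (smul_left_cancel (v : G) (h.trans (hfix _ v.2).symm))⟩
    have hf : Function.Injective f := by
      intro a b hab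
      have h1 : ((b : G)⁻¹ * a) • y = y := by
        rw [mul_smul, show (a : G) • y = (b : G) • y from congrArg Subtype.val hab, inv_smul_smul]
      exact Subtype.ext (inv_mul_eq_one.1 (hfree _ (mul_mem (inv_mem b.2) a.2) y hy h1)).symm
    obtain ⟨v, hv⟩ := ((Fintype.bijective_iff_injective_and_card f).2 ⟨hf, by
      rw [← Nat.card_eq_fintype_card, Nat.card_zpowers, S.hu, Fintype.card_subtype_compl,
        Fintype.card_subtype_eq, ← Nat.card_eq_fintype_card, hΩ]
      rfl⟩).surjective ⟨z, hz⟩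
    exact ⟨v, v.2, congrArg Subtype.val hv⟩
  obtain ⟨o, ho⟩ : ∃ o : Sylow p G, o ≠ P₀ := by
    haveI : Nontrivial (Sylow p G) := by
      rw [← Finite.one_lt_card_iff_nontrivial, hΩ]; have := hp.out.pos; omega
    exact exists_ne P₀
  have hnorm : ∀ g : G, g • P₀ = P₀ → ∀ v ∈ Subgroup.zpowers u₀, g * v * g⁻¹ ∈ Subgroup.zpowers u₀ :=
    fun g hg v hv => (Subgroup.mem_normalizer_iff.1 (Sylow.smul_eq_iff_mem_normalizer.1 hg) v).1 hv
  have hcomm : ∀ a ∈ Subgroup.zpowers u₀, ∀ b ∈ Subgroup.zpowers u₀, a * b = b * a := by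
    intro a ha b hb
    obtain ⟨i, rfl⟩ := Subgroup.mem_zpowers_iff.1 ha
    obtain ⟨j, rfl⟩ := Subgroup.mem_zpowers_iff.1 hb
    exact ((Commute.refl u₀).zpow_zpow i j).eq
  let D : ZassAbelian.Setting G (Sylow p G) :=
    { i := P₀
      o := o
      io := ho.symm
      pair := by
        have key : ∀ a b : Sylow p G, a ≠ b → ∃ g : G, g • a = P₀ ∧ g • b = o := by
          intro a b hab
          obtain ⟨g, hg⟩ := MulAction.exists_smul_eq G a P₀
          obtain ⟨v, hv, hvb⟩ := hreg (g • b) o
            (fun h => hab (smul_left_cancel g (hg.trans h.symm))) ho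
          exact ⟨v * g, by rw [mul_smul, hg, hfix v hv], by rw [mul_smul, hvb]⟩
        intro a b c d hab hcd
        obtain ⟨g, hga, hgb⟩ := key a b hab
        obtain ⟨k, hkc, hkd⟩ := key c d hcd
        exact ⟨k⁻¹ * g, by rw [mul_smul, hga, inv_smul_eq_iff, hkc],
          by rw [mul_smul, hgb, inv_smul_eq_iff, hkd]⟩
      three := by
        intro g a b c hab hbc hac ha hb hc
        obtain ⟨k, hk⟩ := MulAction.exists_smul_eq G a P₀
        set g' := k * g * k⁻¹ with hg'
        have hfx : ∀ x : Sylow p G, g • x = x → g' • (k • x) = k • x := fun x hx => by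
          rw [hg', mul_smul, mul_smul, inv_smul_smul, hx]
        have hgi : g' • P₀ = P₀ := by rw [← hk]; exact hfx a ha
        set y := k • b
        set y' := k • c
        have hy : y ≠ P₀ := fun h => hab (smul_left_cancel k (hk.trans h.symm))
        have hy' : y' ≠ P₀ := fun h => hac (smul_left_cancel k (hk.trans h.symm))
        obtain ⟨v, hv, hvy⟩ := hreg y y' hy hy'
        have hv1 : v ≠ 1 := fun h => by
          rw [h, one_smul] at hvy
          exact hbc (smul_left_cancel k hvy)
        have hgy : g'⁻¹ • y = y := by rw [inv_smul_eq_iff]; exact (hfx b hb).symm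
        have h2 : (v⁻¹ * (g' * v * g'⁻¹)) • y = y := by
          rw [mul_smul, mul_smul, mul_smul, hgy, hvy,
            show g' • y' = y' from hfx c hc, ← hvy, inv_smul_smul]
        have h3 := inv_mul_eq_one.1 (hfree _ (mul_mem (inv_mem hv) (hnorm g' hgi v hv)) y hy h2)
        have h4 : Commute g' v := mul_inv_eq_iff_eq_mul.1 h3.symm
        obtain ⟨i, rfl⟩ := (mem_zpowers_iff_upow S.hu).1 hv
        have hi : i ≠ 0 := fun h => hv1 (h ▸ upow_zero S.hu)
        have hgF : g' ∈ Subgroup.zpowers u₀ := by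
          rw [← hC, ← S.centralizer_upow hi]
          exact Subgroup.mem_centralizer_singleton_iff.2 h4
        exact conj_eq_one_iff.1 (hfree g' hgF y hy (hfx b hb))
      third := by
        obtain ⟨c, hc⟩ : ∃ c, c ∉ ({P₀, o} : Finset (Sylow p G)) := by
          by_contra hall
          push Not at hall
          have h1 := Finset.card_le_card (fun x _ => hall x : (Finset.univ : Finset (Sylow p G)) ⊆ {P₀, o})
          rw [Finset.card_univ, ← Nat.card_eq_fintype_card, hΩ] at h1
          have h2 : ({P₀, o} : Finset (Sylow p G)).card ≤ 2 := Finset.card_le_two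
          have := hp.out.two_le
          omega
        simp only [Finset.mem_insert, Finset.mem_singleton, not_or] at hc
        exact ⟨c, hc.1, hc.2⟩
      F := Subgroup.zpowers u₀
      Fle := hfix
      Fnorm := hnorm
      Fcomm := hcomm
      reg := hreg
      free := hfree }
  have hF : Nat.card D.F = p := by show Nat.card (Subgroup.zpowers u₀) = p; rw [Nat.card_zpowers, S.hu]
  -- the two-point stabiliser
  set N := Subgroup.normalizer (Subgroup.zpowers u₀ : Set G) with hNdef
  have hN : Nat.card N = p * e := by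
    have h := N.card_mul_index
    rw [show N.index = 1 + 1 * p from S.hn, hG, one_mul, add_comm 1 p] at h
    exact Nat.eq_of_mul_eq_mul_right (Nat.succ_pos p) h
  have hmemN : ∀ g : G, g ∈ N ↔ g • D.i = D.i := fun g =>
    (Sylow.smul_eq_iff_mem_normalizer (g := g) (P := P₀)).symm
  have hH : Nat.card D.H = e := by
    let f : D.F × D.H → N := fun x => ⟨(x.1 : G) * x.2, (hmemN _).2 (by
      rw [mul_smul, (D.mem_H.1 x.2.2).1, D.Fle _ x.1.2])⟩
    have hf : Function.Bijective f := by
      constructor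
      · rintro ⟨a, h⟩ ⟨a', h'⟩ heq
        have h1 : (a : G) * h = a' * h' := congrArg Subtype.val heq
        have h2 : (a' : G)⁻¹ * a ∈ D.H := by
          rw [show (a' : G)⁻¹ * a = h' * (h : G)⁻¹ from ?_]
          · exact mul_mem h'.2 (inv_mem h.2)
          · rw [eq_mul_inv_iff_mul_eq, mul_assoc, h1, inv_mul_cancel_left]
        have h3 := D.F_inf_H (mul_mem (inv_mem a'.2) a.2) h2
        have h4 : (a : G) = a' := (inv_mul_eq_one.1 h3).symm
        rw [h4, mul_left_cancel_iff] at h1
        exact Prod.ext (Subtype.ext h4) (Subtype.ext h1)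
      · intro x
        obtain ⟨a, ha, h, hh, heq⟩ := D.exists_mul_H ((hmemN _).1 x.2)
        exact ⟨(⟨a, ha⟩, ⟨h, hh⟩), Subtype.ext heq.symm⟩
    have h := Nat.card_congr (Equiv.ofBijective f hf)
    rw [Nat.card_prod, hF, hN] at h
    exact Nat.eq_of_mul_eq_mul_left hp.out.pos h
  rcases ZassAbelian.classify D with h | ⟨h, hinv⟩ | ⟨R, hR, htr, hfr⟩
  · exfalso; rw [hH, hF] at h; omega
  · obtain ⟨K, iF, iT, hK, -, hiso⟩ := ZassAbelian.psl_of_inverted D h hinv
    exact ⟨K, iF, iT, hK.trans hF, hiso⟩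
  · exfalso
    haveI := hR
    have hRcard : Nat.card R = p + 1 := by
      rw [← hΩ]
      refine Nat.card_eq_of_bijective (fun r : R => (r : G) • P₀) ⟨fun a b hab => ?_, fun y => ?_⟩
      · exact Subtype.ext (inv_mul_eq_one.1 (hfr _ (mul_mem (inv_mem b.2) a.2) P₀ (by
          rw [mul_smul, show (a : G) • P₀ = (b : G) • P₀ from hab, inv_smul_smul]))).symm
      · obtain ⟨m, hm, hmy⟩ := htr P₀ y
        exact ⟨⟨m, hm⟩, hmy⟩
    set π := QuotientGroup.mk' R
    have hsurj : N.map π = ⊤ := by
      refine eq_top_iff.2 fun x _ => ?_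
      obtain ⟨g, rfl⟩ := QuotientGroup.mk'_surjective R x
      obtain ⟨m, hm, hmy⟩ := htr (g • P₀) P₀
      refine ⟨m * g, (hmemN _).2 (by rw [mul_smul]; exact hmy), ?_⟩
      rw [map_mul, show π m = 1 from (QuotientGroup.eq_one_iff m).2 hm, one_mul]
    have hperf : commutator (G ⧸ R) = ⊤ := by
      rw [← Subgroup.map_top_of_surjective _ (QuotientGroup.mk'_surjective R), ← S.perfect,
        commutator_def, commutator_def, Subgroup.map_commutator,
        Subgroup.map_top_of_surjective _ (QuotientGroup.mk'_surjective R)]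
    obtain ⟨ψ, -, hker⟩ := exists_normalizer_hom S.hu
    have hNN : ⁅N, N⁆ ≤ Subgroup.zpowers u₀ := by
      rw [Subgroup.commutator_le]
      intro a ha b hb
      have h1 : (⁅(⟨a, ha⟩ : N), ⟨b, hb⟩⁆ : N) ∈ ψ.ker := by
        rw [MonoidHom.mem_ker, map_commutatorElement]
        exact commutatorElement_eq_one_iff_commute.2 (Commute.all _ _)
      rw [hker, Subgroup.mem_subgroupOf, HeightZero.centralizer_zpowers_eq, hC] at h1
      exact h1
    have htop : (Subgroup.zpowers u₀).map π = ⊤ := by
      refine eq_top_iff.2 ?_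
      rw [← hperf, commutator_def, ← hsurj, ← Subgroup.map_commutator]
      exact Subgroup.map_mono hNN
    have hbot : commutator (G ⧸ R) = ⊥ := by
      rw [commutator_def, Subgroup.commutator_eq_bot_iff_le_centralizer]
      intro a _
      rw [Subgroup.mem_centralizer_iff]
      intro b _
      obtain ⟨a', ha', rfl⟩ : a ∈ (Subgroup.zpowers u₀).map π := htop ▸ Subgroup.mem_top a
      obtain ⟨b', hb', rfl⟩ : b ∈ (Subgroup.zpowers u₀).map π := htop ▸ Subgroup.mem_top b
      rw [← map_mul, ← map_mul, hcomm b' hb' a' ha']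
    have hsub : ∀ x : G ⧸ R, x = 1 := fun x =>
      Subgroup.mem_bot.1 (hbot ▸ hperf.symm ▸ Subgroup.mem_top x : x ∈ (⊥ : Subgroup (G ⧸ R)))
    have hRtop : R = ⊤ := eq_top_iff.2 fun g _ => (QuotientGroup.eq_one_iff g).1 (hsub _)
    rw [hRtop, Subgroup.card_top, hG] at hRcard
    have h2 : 2 * 1 * (p + 1) ≤ p * e * (p + 1) :=
      Nat.mul_le_mul_right _ (Nat.mul_le_mul hp.out.two_le (by omega))
    omega

end CfsgLib.Blocks.OrderP.Perfect
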