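import Cfsg.Agent.Blocks.OrderP.Perfect.Reduce
import Cfsg.Agent.Blocks.OrderP.Perfect.CharTwo
import Cfsg.Agent.Blocks.OrderP.Perfect.LargeT
import Cfsg.Agent.Blocks.OrderP.Perfect.RecogPSL
import Cfsg.Agent.CAGroups.Recognition

/-!
# Brauer's theorem on perfect groups with a Sylow subgroup of order `p`
-/

set_option autoImplicit false
set_option linter.style.haveILetI false
set_option linter.unusedSectionVars false

namespace CfsgLib.Blocks.OrderP.Perfect

open Cfsg CfsgLib

universe u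

variable {p : ℕ} [hp : Fact p.Prime] {G : Type u} [Group G] [Fintype G] {u₀ : G} {n e : ℕ}

/-- `G` is `PSL(2, p)`, or `SL(2, 2^m) = PSL(2, 2^m)` with `p = 2^m + 1`, with its order. -/
def Recognised (p : ℕ) (G : Type u) [Group G] : Prop :=
  3 < p ∧
  ((2 * Nat.card G = p * (p - 1) * (p + 1) ∧
      ∃ (F : Type) (_ : Field F) (_ : Fintype F), Fintype.card F = p ∧
        Nonempty (G ≃* Matrix.ProjectiveSpecialLinearGroup (Fin 2) F)) ∨
    ∃ m : ℕ, p = 2 ^ m + 1 ∧ Nat.card G = p * (p - 1) * (p - 2) ∧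
      (∃ (F : Type) (_ : Field F) (_ : Fintype F), Fintype.card F = 2 ^ m ∧
        Nonempty (G ≃* Matrix.SpecialLinearGroup (Fin 2) F)) ∧
      ∃ (F : Type) (_ : Field F) (_ : Fintype F), Fintype.card F = 2 ^ m ∧
        Nonempty (G ≃* Matrix.ProjectiveSpecialLinearGroup (Fin 2) F))

/-- The self-centralising case. -/
theorem Setup.recognised (S : Setup p n e u₀)
    (hC : Subgroup.centralizer ({u₀} : Set G) = Subgroup.zpowers u₀) (hF : ¬ CountForm n p) :
    Recognised p G := by
  have he := S.two_le_e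
  have main : (n = 1 ∧ 2 * e + 1 = p) → Recognised p G := by
    rintro ⟨rfl, h2⟩
    obtain ⟨hG, hiso⟩ := recognise_psl S hC h2
    refine ⟨by omega, Or.inl ⟨?_, hiso⟩⟩
    rw [hG, show p - 1 = 2 * e by omega]
    ring
  rcases S.split hC hF with h | ⟨⟨C⟩⟩
  · exact main h
  obtain ⟨s, hs⟩ := S.exists_complement hC
  rcases Finset.eq_empty_or_nonempty C.MA with ha | ha
  · obtain ⟨m, T, hpm, hp3, hG, hT, hyp⟩ := C.char_two S hC hs ha
    obtain ⟨F, iF, iT, -, hcard, hiso⟩ := CAGroups.nonempty_mulEquiv_sl2 hyp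
    obtain ⟨F', iF', iT', -, hcard', hiso'⟩ := CAGroups.nonempty_mulEquiv_psl hyp
    exact ⟨hp3, Or.inr ⟨m, hpm, hG, ⟨F, iF, iT, hcard.trans hT, hiso⟩,
      ⟨F', iF', iT', hcard'.trans hT, hiso'⟩⟩⟩
  · have h1 := C.t_le_two S hC hs ha
    have h2 := C.two_le_t S hC hs
    have h3 := (C.K_eq_one S hC hs).2.1
    have h4 := C.p_eq S hC hs
    have h5 : C.t = 2 := by omega
    rw [h5] at h4
    exact main ⟨by omega, by omega⟩

/-- The setting attached to a Sylow subgroup of order `p`. -/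
theorem exists_setup (hperf : commutator G = ⊤) (P : Sylow p G) (hP : Nat.card P = p)
    (hn : Nat.card (Sylow p G) = 1 + n * p) :
    ∃ (u₀ : G) (e : ℕ), Setup p n e u₀ := by
  obtain ⟨u₀, hu, hz, hidx⟩ := exists_generator_sylow P hP
  exact ⟨u₀, _, hu, hidx, hperf, by rw [hz]; exact (Sylow.card_eq_index_normalizer P).symm.trans hn, rfl⟩

/-- **Brauer's theorem**, modulo `O_{p'}`. -/
theorem recognised_quotient (hperf : commutator G = ⊤) (P : Sylow p G) (hP : Nat.card P = p)
    (hn : Nat.card (Sylow p G) = 1 + n * p) :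
    Recognised p (G ⧸ pPrimeCore p G) ∨ CountForm n p := by
  classical
  by_cases hF : CountForm n p
  · exact Or.inr hF
  left
  obtain ⟨u₀, e, S⟩ := exists_setup hperf P hP hn
  haveI : (pPrimeCore p G).Normal := Constrained.instNormalPPrimeCore p
  haveI := Fintype.ofFinite (G ⧸ pPrimeCore p G)
  obtain ⟨e', S', hC⟩ := S.exists_quotient hF
  exact S'.recognised hC hF

theorem Recognised.of_mulEquiv {H : Type*} [Group H] (φ : G ≃* H) (h : Recognised p H) :
    Recognised p G := by
  obtain ⟨h3, h⟩ := h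
  refine ⟨h3, ?_⟩
  rw [Nat.card_congr φ.toEquiv]
  rcases h with ⟨hc, F, iF, iT, hF, ⟨i⟩⟩ | ⟨m, hm, hc, ⟨F, iF, iT, hF, ⟨i⟩⟩, F', iF', iT', hF', ⟨i'⟩⟩
  · exact Or.inl ⟨hc, F, iF, iT, hF, ⟨φ.trans i⟩⟩
  · exact Or.inr ⟨m, hm, hc, ⟨F, iF, iT, hF, ⟨φ.trans i⟩⟩, F', iF', iT', hF', ⟨φ.trans i'⟩⟩

/-- The exceptional form makes the group big. -/
theorem Setup.cube_le (S : Setup p n e u₀) (hF : CountForm n p) : p ^ 3 ≤ Nat.card G := by
  have h := hF.le
  have he := S.two_le_e
  have h1 : p ∣ Nat.card (Subgroup.centralizer ({u₀} : Set G)) :=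
    S.hu ▸ Subgroup.orderOf_dvd_natCard _ (Subgroup.mem_centralizer_singleton_iff.2 rfl)
  rw [← (Subgroup.centralizer ({u₀} : Set G)).card_mul_index, S.centralizer_index]
  calc p ^ 3 ≤ p * (2 * (1 + n * p)) := by nlinarith [hp.out.two_le, Nat.mul_le_mul_left (p * p) h]
    _ ≤ _ := Nat.mul_le_mul (Nat.le_of_dvd Nat.card_pos h1) (Nat.mul_le_mul_right _ he)

/-- **Brauer's theorem for large primes**: a perfect group of order `< p³`. -/
theorem recognised_of_lt_cube (hperf : commutator G = ⊤) (hdvd : p ∣ Nat.card G)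
    (hbig : Nat.card G < p ^ 3) (P : Sylow p G) (hP : ¬ (P : Subgroup G).Normal)
    (h2 : ∀ N : Subgroup G, N.Normal → Nat.card N ≠ 2) : Recognised p G := by
  classical
  have hcardP : Nat.card P = p := by
    rw [P.card_eq_multiplicity]
    set a := (Nat.card G).factorization p
    have ha : 1 ≤ a :=
      (hp.out.dvd_iff_one_le_factorization Nat.card_pos.ne').1 hdvd
    rcases Nat.lt_or_ge a 2 with h | h
    · rw [show a = 1 by omega, pow_one]
    exfalso
    apply hP
    have h1 : p ^ 2 ≤ Nat.card P := by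
      rw [P.card_eq_multiplicity]; exact Nat.pow_le_pow_right hp.out.pos h
    have h3 : Nat.card P * Nat.card (Sylow p G) ≤ Nat.card G := by
      rw [Sylow.card_eq_index_normalizer P]
      refine le_trans ?_ (Subgroup.normalizer ((P : Subgroup G) : Set G)).card_mul_index.le
      exact Nat.mul_le_mul_right _ (Subgroup.card_le_of_le Subgroup.le_normalizer)
    have h4 : Nat.card (Sylow p G) < p := by
      by_contra h5
      push Not at h5
      have := Nat.mul_le_mul h1 h5
      rw [show p ^ 2 * p = p ^ 3 by ring] at this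
      omega
    have h5 : Nat.card (Sylow p G) % p = 1 :=
      Eq.trans (card_sylow_modEq_one p G) (Nat.one_mod_eq_one.2 hp.out.ne_one)
    rw [Nat.mod_eq_of_lt h4, Sylow.card_eq_index_normalizer P, Subgroup.index_eq_one] at h5
    exact Subgroup.normalizer_eq_top_iff.1 h5
  obtain ⟨n, hn⟩ : ∃ n, Nat.card (Sylow p G) = 1 + n * p := by
    refine ⟨Nat.card (Sylow p G) / p, ?_⟩
    have h5 : Nat.card (Sylow p G) % p = 1 :=
      Eq.trans (card_sylow_modEq_one p G) (Nat.one_mod_eq_one.2 hp.out.ne_one)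
    conv_lhs => rw [← Nat.div_add_mod (Nat.card (Sylow p G)) p, h5]
    ring
  obtain ⟨u₀, e, S⟩ := exists_setup hperf P hcardP hn
  rcases recognised_quotient hperf P hcardP hn with h | h
  swap
  · exact absurd (S.cube_le h) (by omega)
  set K := pPrimeCore p G
  haveI : K.Normal := Constrained.instNormalPPrimeCore p
  have hG : Nat.card G = Nat.card K * Nat.card (G ⧸ K) := by
    rw [← Subgroup.index_eq_card, Subgroup.card_mul_index]
  have hK3 : Nat.card K < 3 := by
    by_contra h3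
    push Not at h3
    obtain ⟨hp3, h⟩ := h
    have h4 : 3 * Nat.card (G ⧸ K) < p ^ 3 := by
      refine lt_of_le_of_lt ?_ hbig
      rw [hG]
      exact Nat.mul_le_mul_right _ h3
    obtain ⟨q, rfl⟩ : ∃ q, p = q + 2 := ⟨p - 2, by omega⟩
    rw [show q + 2 - 1 = q + 1 by omega, show q + 2 - 2 = q by omega] at h
    rcases h with ⟨hc, -⟩ | ⟨m, hm, hc, -⟩
    · change 2 * Nat.card (G ⧸ K) = _ at hc
      nlinarith [mul_le_mul_of_nonneg_right (show 1 ≤ q by omega) (Nat.zero_le ((q + 2) * q))]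
    · rcases Nat.lt_or_ge q 3 with hq | hq
      · rcases m with _ | _ | m
        · simp at hm; omega
        · simp at hm; omega
        · have : 4 ≤ 2 ^ (m + 1 + 1) := by
            rw [show (4 : ℕ) = 2 ^ 2 from rfl]; exact Nat.pow_le_pow_right two_pos (by omega)
          omega
      · nlinarith
  have hbot : K = ⊥ := Subgroup.card_eq_one.1 (by
    have h6 : 0 < Nat.card K := Nat.card_pos
    have h7 := h2 K inferInstance
    omega)
  exact h.of_mulEquiv ((QuotientGroup.quotientBot (G := G)).symm.trans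
    (QuotientGroup.quotientMulEquivOfEq hbot.symm))

end CfsgLib.Blocks.OrderP.Perfect
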