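import Cfsg.Agent.Blocks.OrderP.Perfect.Block

/-!
# Passing to the quotient by `O_{p'}`: the element becomes self-centralising
-/

set_option autoImplicit false
set_option linter.style.haveILetI false
set_option linter.unusedSectionVars false

namespace CfsgLib.Blocks.OrderP.Perfect

open Cfsg CfsgLib Finset
open scoped ComplexConjugate

universe u

variable {p : ℕ} [hp : Fact p.Prime] {G : Type u} [Group G] [Fintype G] {u₀ : G} {n e : ℕ}
  {M : Ideal AlgInt}

/-- A character of the principal block of degree `p - 1` with value `-1` on the Sylow subgroup. -/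
theorem exists_degree_pred (S : Setup p n e u₀) (hM : IsPModular p M) (hF : ¬ CountForm n p) :
    ∃ χ ∈ principalBlock M G, charDegree (χ : G → ℂ) = p - 1 ∧
      ∀ i : ZMod p, i ≠ 0 → (χ : G → ℂ) (upow u₀ i) = -1 := by
  classical
  obtain ⟨B⟩ := S.exists_blk (M := M) hM
  by_contra hno
  push Not at hno
  have hn := S.n_pos
  have he := S.two_le_e
  have hneg : ∀ χ ∈ B.X, B.εX χ = -1 → B.t = 1 ∧ charDegree (χ : G → ℂ) = e * (1 + n * p) := by
    intro χ hχ hs
    refine (B.deg_X_neg S hF hχ hs).resolve_left fun hd => ?_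
    obtain ⟨i, hi, h⟩ := hno χ ((B.mem_iff χ).2 (Or.inl hχ)) hd
    exact h (by rw [B.valX χ hχ i hi, hs]; simp)
  obtain ⟨θ, hθ⟩ := B.Y_nonempty
  have hsum := B.deg_Y hθ
  rw [← Finset.add_sum_erase _ _ B.one_mem, B.εX_one,
    show charDegree (Chars.oneChar G : G → ℂ) = 1 from Chars.charDegree_eq_of_map_one (by simp)]
    at hsum
  rw [Nat.cast_one, one_mul] at hsum
  set M₀ : ℤ := 1 + (n : ℤ) * (p : ℤ) with hM₀
  have hM2 : 2 ≤ M₀ := by
    have : 0 < (n : ℤ) * p := by
      have := hp.out.pos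
      positivity
    omega
  have hdiv : M₀ ∣ ∑ χ ∈ B.X.erase (Chars.oneChar G), B.εX χ * (charDegree (χ : G → ℂ) : ℤ) := by
    refine Finset.dvd_sum fun χ hχ => ?_
    obtain ⟨h1, hχX⟩ := Finset.mem_erase.1 hχ
    rcases B.sign χ hχX with h | h
    · rcases B.deg_X_pos S hF hχX h with h2 | h2
      · exact absurd h2 h1
      · rw [h2]; push_cast; exact dvd_mul_left _ _
    · rw [(hneg χ hχX h).2]; push_cast; exact ⟨B.εX χ * e, by ring⟩
  set W := ∑ χ ∈ B.X.erase (Chars.oneChar G), B.εX χ * (charDegree (χ : G → ℂ) : ℤ)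
  have hnot : ¬ M₀ ∣ (1 : ℤ) := fun h => by have := Int.le_of_dvd one_pos h; omega
  rcases B.hε with hε | hε
  · rw [hε, one_mul] at hsum
    rcases B.deg_Y_pos S hM hF hθ hε with hd | hd
    · rcases eq_or_ne B.t 1 with ht | ht
      · have hpe : e = p - 1 := by have := B.ht; rw [ht, one_mul] at this; exact this
        obtain ⟨i, hi, h⟩ := hno θ ((B.mem_iff θ).2 (Or.inr hθ)) (by rw [hd, hpe])
        have hY : B.Y = {θ} := Finset.eq_singleton_iff_unique_mem.2 ⟨hθ, fun η hη =>
          Finset.card_le_one.1 (by rw [B.cardY, ht]) η hη θ hθ⟩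
        have h2 := B.sum_Y_apply S hM hi
        rw [hY, Finset.sum_singleton, hε] at h2
        exact h (by rw [h2]; simp)
      · have hpos : ∀ χ ∈ B.X.erase (Chars.oneChar G),
            B.εX χ * (charDegree (χ : G → ℂ) : ℤ) = M₀ := by
          intro χ hχ
          obtain ⟨h1, hχX⟩ := Finset.mem_erase.1 hχ
          rcases B.sign χ hχX with h | h
          · rw [h, one_mul, (B.deg_X_pos S hF hχX h).resolve_left h1]; push_cast; rfl
          · exact absurd (hneg χ hχX h).1 ht
        have hW : W = ((e - 1 : ℕ) : ℤ) * M₀ := by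
          show ∑ χ ∈ B.X.erase (Chars.oneChar G), _ = _
          rw [Finset.sum_congr rfl hpos, Finset.sum_const, Finset.card_erase_of_mem B.one_mem,
            B.cardX, nsmul_eq_mul]
        rw [hd, hW, Nat.cast_sub (by omega)] at hsum
        push_cast at hsum
        have he' : (2 : ℤ) ≤ e := by exact_mod_cast he
        nlinarith
    · rw [hd] at hsum
      push_cast at hsum
      refine hnot ?_
      have h1 : (1 : ℤ) = (e : ℤ) * M₀ - W := by linarith
      rw [h1]
      exact dvd_sub (dvd_mul_left _ _) hdiv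
  · rw [hε, neg_one_mul] at hsum
    have htD : (B.t : ℤ) * (charDegree (θ : G → ℂ) : ℤ) = M₀ := by
      rw [hM₀]; exact_mod_cast B.deg_Y_neg S hM hF hθ hε
    rcases eq_or_ne B.t 1 with ht | ht
    · rw [ht, Nat.cast_one, one_mul] at htD
      refine hnot ?_
      have h1 : (1 : ℤ) = -M₀ - W := by linarith
      rw [h1]
      exact dvd_sub (dvd_neg.2 dvd_rfl) hdiv
    · have hW : 0 ≤ W := Finset.sum_nonneg fun χ hχ => by
        rcases B.sign χ (Finset.mem_of_mem_erase hχ) with h | h
        · rw [h]; positivity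
        · exact absurd (hneg χ (Finset.mem_of_mem_erase hχ) h).1 ht
      have : (0 : ℤ) ≤ (charDegree (θ : G → ℂ) : ℤ) := Int.natCast_nonneg _
      linarith

/-- The centraliser part prime to `p` lies in the kernel of such a character. -/
theorem mem_charKer_of_commute (S : Setup p n e u₀) (hM : IsPModular p M) {χ : IrrCharacter G}
    (hχ : χ ∈ principalBlock M G) (hd : charDegree (χ : G → ℂ) = p - 1)
    (hv : ∀ i : ZMod p, i ≠ 0 → (χ : G → ℂ) (upow u₀ i) = -1) {y : G} (hy : Commute y u₀)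
    (hyr : ¬ p ∣ orderOf y) : y ∈ Chars.charKer (χ : G → ℂ) := by
  classical
  set P := Subgroup.zpowers u₀
  set E := Subgroup.zpowers y
  have hnorm : ∀ x ∈ E, ∀ z ∈ P, x * z * x⁻¹ ∈ P := by
    intro x hx z hz
    obtain ⟨a, rfl⟩ := Subgroup.mem_zpowers_iff.1 hx
    obtain ⟨b, rfl⟩ := Subgroup.mem_zpowers_iff.1 hz
    rw [show y ^ a * u₀ ^ b * (y ^ a)⁻¹ = u₀ ^ b from
      mul_inv_eq_iff_eq_mul.2 ((hy.zpow_zpow a b).eq)]
    exact hz
  have hch := isCharacter_average (Chars.isCharacter_coe χ) P E hnorm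
  have hval : ∀ x : E, (Nat.card P : ℂ)⁻¹ * ∑ z : P, (χ : G → ℂ) ((x : G) * z) =
      (p : ℂ)⁻¹ * ((χ : G → ℂ) x - ((p - 1 : ℕ) : ℂ)) := by
    intro x
    rw [Nat.card_zpowers, S.hu, sum_zpowers S.hu (fun z => (χ : G → ℂ) ((x : G) * z)),
      ← Finset.add_sum_erase _ _ (Finset.mem_univ (0 : ZMod p)), upow_zero S.hu, mul_one]
    congr 1
    have hcx : Commute (x : G) u₀ := by
      obtain ⟨a, ha⟩ := Subgroup.mem_zpowers_iff.1 x.2
      rw [← ha]; exact hy.zpow_left a
    have hxr : ¬ p ∣ orderOf (x : G) := fun h => hyr (h.trans (Subgroup.orderOf_dvd_natCard _ x.2 |>.trans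
      (by rw [Nat.card_zpowers])))
    rw [Finset.sum_congr rfl fun i hi => by
      have hi0 := Finset.ne_of_mem_erase hi
      rw [show (x : G) * upow u₀ i = upow u₀ i * x from (hcx.pow_right _).eq,
        apply_mul_eq hM (orderOf_upow S.hu hi0) (by rw [zpowers_upow S.hu hi0]; exact S.hidx) hχ
          (hcx.pow_right _) hxr, hv i hi0],
      Finset.sum_const, Finset.card_erase_of_mem (Finset.mem_univ _), Finset.card_univ, ZMod.card,
      nsmul_eq_mul]
    ring
  have h1 := hval 1
  rw [OneMemClass.coe_one, ← Chars.coe_charDegree, hd, sub_self, mul_zero] at h1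
  have hzero := Chars.eq_zero_of_map_one_eq_zero hch h1
  have h2 := (hval ⟨y, Subgroup.mem_zpowers y⟩).symm.trans (congrFun hzero ⟨y, Subgroup.mem_zpowers y⟩)
  rw [Pi.zero_apply, mul_eq_zero, sub_eq_zero, inv_eq_zero] at h2
  rw [Chars.mem_charKer_iff (Chars.isCharacter_coe χ), ← Chars.coe_charDegree, hd]
  exact h2.resolve_left (Nat.cast_ne_zero.2 hp.out.ne_zero)

/-- The reduction: modulo `O_{p'}` the element is self-centralising and the count is unchanged. -/
theorem Setup.exists_quotient (S : Setup p n e u₀) (hF : ¬ CountForm n p)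
    [Fintype (G ⧸ pPrimeCore p G)] :
    ∃ e' : ℕ, Setup p n e' (u₀ : G ⧸ pPrimeCore p G) ∧
      Subgroup.centralizer ({(u₀ : G ⧸ pPrimeCore p G)} : Set (G ⧸ pPrimeCore p G)) =
        Subgroup.zpowers (u₀ : G ⧸ pPrimeCore p G) := by
  classical
  obtain ⟨M, hM⟩ := exists_isPModular p hp.out
  have := isMaximal_of_isPModular hM
  obtain ⟨χ, hχ, hd, hv⟩ := exists_degree_pred S hM hF
  set K := pPrimeCore p G with hKdef
  haveI : K.Normal := Constrained.instNormalPPrimeCore p
  have hK : ¬ p ∣ Nat.card K := Constrained.pPrimeCore_not_dvd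
  set π := QuotientGroup.mk' K
  set ū : G ⧸ K := (u₀ : G ⧸ K)
  have hP : IsPGroup p (Subgroup.zpowers u₀) :=
    IsPGroup.of_card (n := 1) (by rw [Nat.card_zpowers, S.hu, pow_one])
  -- the complement of the centraliser lies in the core
  have hker : ¬ p ∣ Nat.card (Chars.charKer (χ : G → ℂ)) := by
    intro hdvd
    obtain ⟨x, hx⟩ := exists_prime_orderOf_dvd_card' p hdvd
    have hxP : IsPGroup p (Subgroup.zpowers (x : G)) :=
      IsPGroup.of_card (n := 1) (by rw [Nat.card_zpowers, Subgroup.orderOf_coe, hx, pow_one])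
    obtain ⟨P, hPle⟩ := hxP.exists_le_sylow
    obtain ⟨g, hg⟩ := MulAction.exists_smul_eq G P (hP.toSylow S.hidx)
    have hmem : g * (x : G) * g⁻¹ ∈ Subgroup.zpowers u₀ := by
      show g * (x : G) * g⁻¹ ∈ (hP.toSylow S.hidx : Subgroup G)
      rw [← hg]
      exact ⟨x, hPle (Subgroup.mem_zpowers _), rfl⟩
    have hmem' := (inferInstance : (Chars.charKer (χ : G → ℂ)).Normal).conj_mem _ x.2 g
    obtain ⟨i, hi⟩ := (mem_zpowers_iff_upow S.hu).1 hmem
    rw [hi] at hmem'
    have hi0 : i ≠ 0 := by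
      rintro rfl
      rw [upow_zero S.hu, conj_eq_one_iff] at hi
      rw [← Subgroup.orderOf_coe, hi, orderOf_one] at hx
      exact hp.out.ne_one hx.symm
    have h := (Chars.mem_charKer_iff (Chars.isCharacter_coe χ)).1 hmem'
    rw [hv i hi0, ← Chars.coe_charDegree, hd, Nat.cast_sub hp.out.one_lt.le] at h
    have h' : (p : ℂ) = 0 := by push_cast at h; linear_combination -h
    exact hp.out.ne_zero (Nat.cast_eq_zero.1 h')
  have hkle : Chars.charKer (χ : G → ℂ) ≤ K := Constrained.le_pPrimeCore inferInstance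
    (Transfer.coprime_of_not_dvd hker)
  have hu : orderOf ū = p := by
    refine orderOf_eq_prime ?_ fun h => ?_
    · rw [← QuotientGroup.mk_pow, ← S.hu, pow_orderOf_eq_one, QuotientGroup.mk_one]
    · rw [QuotientGroup.eq_one_iff] at h
      exact hK (S.hu ▸ Subgroup.orderOf_dvd_natCard K h)
  have hmapP : (Subgroup.zpowers u₀).map π = Subgroup.zpowers ū := MonoidHom.map_zpowers π u₀
  have hidx : ¬ p ∣ (Subgroup.zpowers ū).index := by
    rw [← hmapP]
    exact fun h => S.hidx (h.trans (Subgroup.index_map_dvd _ (QuotientGroup.mk'_surjective K)))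
  have hC : Subgroup.centralizer ({ū} : Set (G ⧸ K)) = Subgroup.zpowers ū := by
    refine le_antisymm ?_ (Subgroup.zpowers_le.2 (Subgroup.mem_centralizer_singleton_iff.2 rfl))
    rw [← HeightZero.centralizer_zpowers_eq, ← hmapP,
      ← Constrained.map_centralizer_eq K hK _ hP]
    rintro _ ⟨c, hc, rfl⟩
    rw [SetLike.mem_coe, HeightZero.centralizer_zpowers_eq] at hc
    obtain ⟨hKc, m, hm, hdec⟩ := exists_centralizer_complement S.hu S.hidx
    obtain ⟨x, hx, y, hy, hxy⟩ := hdec ⟨c, hc⟩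
    simp only at hxy
    have hy' : Commute (y : G) u₀ := Subgroup.mem_centralizer_singleton_iff.1 y.2
    have hyK : (y : G) ∈ K := hkle (mem_charKer_of_commute S hM hχ hd hv hy'
      (fun h => hKc (h.trans (by rw [Subgroup.orderOf_coe]; exact Subgroup.orderOf_dvd_natCard _ hy))))
    rw [hxy, map_mul, QuotientGroup.mk'_apply K (y : G), (QuotientGroup.eq_one_iff (y : G)).2 hyK,
      mul_one]
    exact ⟨x, hx, rfl⟩
  have hperf : commutator (G ⧸ K) = ⊤ := by
    rw [← Subgroup.map_top_of_surjective _ (QuotientGroup.mk'_surjective K), ← S.perfect,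
      commutator_def, commutator_def, Subgroup.map_commutator,
      Subgroup.map_top_of_surjective _ (QuotientGroup.mk'_surjective K)]
  have hnorm : (Subgroup.normalizer (Subgroup.zpowers ū : Set (G ⧸ K))).index ∣ 1 + n * p := by
    rw [← hmapP, ← Constrained.map_normalizer_eq K hK _ hP, ← S.hn]
    exact Subgroup.index_map_dvd _ (QuotientGroup.mk'_surjective K)
  let P' : Sylow p (G ⧸ K) :=
    (IsPGroup.of_card (n := 1) (by rw [Nat.card_zpowers, hu, pow_one]) :
      IsPGroup p (Subgroup.zpowers ū)).toSylow hidx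
  have hcong : ((Subgroup.normalizer (Subgroup.zpowers ū : Set (G ⧸ K))).index : ZMod p) = 1 := by
    have h1 := card_sylow_modEq_one p (G ⧸ K)
    rw [Sylow.card_eq_index_normalizer P'] at h1
    rw [← Nat.cast_one, ZMod.natCast_eq_natCast_iff]
    exact h1
  obtain ⟨n', hn'⟩ : ∃ n', (Subgroup.normalizer (Subgroup.zpowers ū : Set (G ⧸ K))).index = 1 + n' * p := by
    refine ⟨(Subgroup.normalizer (Subgroup.zpowers ū : Set (G ⧸ K))).index / p, ?_⟩
    have h2 := congrArg ZMod.val hcong
    rw [ZMod.val_natCast, ZMod.val_one] at h2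
    conv_lhs => rw [← Nat.div_add_mod (Subgroup.normalizer (Subgroup.zpowers ū : Set (G ⧸ K))).index p,
      h2]
    ring
  have S' : Setup p n' _ ū := ⟨hu, hidx, hperf, hn', rfl⟩
  rcases eq_one_or_of_dvd hp.out.two_le hF hcong (hnorm.trans (dvd_mul_left _ _)) with h | h
  · have h0 := S'.n_pos
    rw [hn'] at h
    nlinarith [hp.out.pos]
  · refine ⟨_, ⟨hu, hidx, hperf, h, rfl⟩, hC⟩

end CfsgLib.Blocks.OrderP.Perfect
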