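import Cfsg.Agent.Blocks.OrderP.Perfect.CaseTwo
import Cfsg.Agent.Chars.Brauer.Defect

/-!
# The second configuration: the exceptional character is the sign on the complement
-/

set_option autoImplicit false
set_option linter.style.haveILetI false
set_option linter.unusedSectionVars false

namespace CfsgLib.Blocks.OrderP.Perfect

open Cfsg CfsgLib Finset
open scoped ComplexConjugate

universe u

variable {p : ℕ} [hp : Fact p.Prime] {G : Type u} [Group G] [Fintype G] {u₀ s : G} {n e : ℕ}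

/-- A character whose codegree is prime to `q` vanishes at `q`-singular elements. -/
theorem apply_eq_zero_of_codegree {q : ℕ} (hq : q.Prime) (χ : IrrCharacter G) {r : ℕ}
    (hr : Nat.card G = charDegree (χ : G → ℂ) * r) (hqr : ¬ q ∣ r) {g : G}
    (hg : q ∣ orderOf g) : (χ : G → ℂ) g = 0 := by
  set d := charDegree (χ : G → ℂ)
  refine Chars.Brauer.eq_zero_of_defect_zero hq χ (a := d.factorization q)
    (m := d / q ^ (d.factorization q) * r) ?_ ?_ (Nat.ordProj_dvd d q) hg
  · rw [hr, ← mul_assoc, Nat.mul_div_cancel' (Nat.ordProj_dvd d q)]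
  · intro h
    rcases (Nat.Prime.dvd_mul hq).1 h with h | h
    · exact Nat.not_dvd_ordCompl hq (Chars.charDegree_pos χ).ne' h
    · exact hqr h

namespace CaseTwo

variable (C : CaseTwo p n e u₀) (S : Setup p n e u₀)
  (hC : Subgroup.centralizer ({u₀} : Set G) = Subgroup.zpowers u₀)
  (hs : IsComplementGen p e u₀ s)

include C S hC hs

theorem two_le_t : 2 ≤ C.t := by
  have := (C.K_eq_one S hC hs).2.1
  have := S.n_pos
  omega

theorem p_eq : p = C.t * e + 1 := by
  have := C.ht
  have := hp.out.two_le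
  omega

theorem deg_Y_add {θ : IrrCharacter G} (hθ : θ ∈ C.Y) : charDegree (θ : G → ℂ) + e = p := by
  rw [C.degY θ hθ, (C.K_eq_one S hC hs).1, one_mul]

theorem t_mul_deg {θ : IrrCharacter G} (hθ : θ ∈ C.Y) :
    C.t * charDegree (θ : G → ℂ) = 1 + n * p := by
  refine Nat.cast_injective (R := ℂ) ?_
  push_cast
  rw [Chars.coe_charDegree]
  exact C.tD hθ

theorem conjChar_mem {θ : IrrCharacter G} (hθ : θ ∈ C.Y) : Chars.conjChar θ ∈ C.Y := by
  classical
  have hd : charDegree (Chars.conjChar θ : G → ℂ) = charDegree (θ : G → ℂ) :=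
    Chars.charDegree_eq_of_map_one (by
      rw [Chars.conjChar_apply, Chars.conj_map_one (Chars.isCharacter_coe θ), Chars.coe_charDegree])
  have hD := C.deg_Y_add S hC hs hθ
  have hM := C.t_mul_deg S hC hs hθ
  have ht := C.two_le_t S hC hs
  have he := S.two_le_e
  have hpeq := C.p_eq S hC hs
  have hDpos := Chars.charDegree_pos θ
  by_contra hY
  by_cases h1 : Chars.conjChar θ = Chars.oneChar G
  · have hD1 : charDegree (θ : G → ℂ) = 1 := by
      rw [← hd, h1]; exact Chars.charDegree_eq_of_map_one (by simp)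
    exact C.one_Y (S.eq_oneChar_of_deg_one hD1 ▸ hθ)
  by_cases h2 : Chars.conjChar θ ∈ C.MA
  · have hd2 := C.degMA _ h2
    rw [hd, ← hM] at hd2
    have : charDegree (θ : G → ℂ) * 1 < charDegree (θ : G → ℂ) * C.t :=
      Nat.mul_lt_mul_of_pos_left ht hDpos
    rw [mul_one, mul_comm] at this
    omega
  by_cases h3 : Chars.conjChar θ ∈ C.BP
  · have hd3 := C.degBP _ h3
    omega
  have hsum := congrArg conj (C.sumY θ hθ)
  rw [map_sum, Complex.conj_natCast] at hsum
  simp only [← Chars.conjChar_apply] at hsum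
  rw [Finset.sum_eq_zero fun i hi =>
    C.other _ h1 h2 h3 hY i (Finset.ne_of_mem_erase hi)] at hsum
  exact absurd hsum.symm (Nat.cast_ne_zero.2 (by omega))

/-- The exceptional character is the sign on the complement. -/
theorem apply_pow {θ : IrrCharacter G} (hθ : θ ∈ C.Y) :
    Even e ∧ ∀ k : ℕ, s ^ k ≠ 1 → (θ : G → ℂ) (s ^ k) = (-1) ^ k := by
  classical
  set E := Subgroup.zpowers s
  have hch := hs.isCharacter_fixChar S.hu (Chars.isCharacter_coe θ)
  have h1 : fixChar p u₀ s (θ : G → ℂ) 1 = 1 := by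
    rw [C.fix_Y S hC hs hθ, (C.K_eq_one S hC hs).1, Nat.cast_one]
  obtain ⟨l, hl⟩ := Chars.exists_monoidHom_of_map_one_eq_one hch h1
  set g₀ : E := ⟨s, Subgroup.mem_zpowers s⟩
  set z : ℂ := (l g₀ : ℂ)
  have hs1 : g₀ ≠ 1 := fun h => by
    have h1 := hs.order
    rw [show s = 1 from congrArg Subtype.val h, orderOf_one] at h1
    have := S.two_le_e; omega
  have hpow : ∀ k : ℕ, s ^ k ≠ 1 → (θ : G → ℂ) (s ^ k) = z ^ k := by
    intro k hk
    have h := hs.fixChar_apply S.hu (Chars.isClassFunction_coe θ) (x := g₀ ^ k)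
      (fun h => hk (congrArg Subtype.val h))
    rw [hl, map_pow, Units.val_pow_eq_pow_val] at h
    exact h.symm
  have hze : z ^ e = 1 := by
    show (l g₀ : ℂ) ^ e = 1
    rw [← Units.val_pow_eq_pow_val, ← map_pow,
      show g₀ ^ e = 1 from Subtype.ext (by
        show s ^ e = 1
        rw [← hs.order, pow_orderOf_eq_one]), map_one, Units.val_one]
  have hzn : ‖z‖ = 1 := Complex.norm_eq_one_of_pow_eq_one hze S.e_pos.ne'
  have hzc : conj z = z := by
    have hs1' : s ^ 1 ≠ 1 := fun h => hs1 (Subtype.ext (by rw [pow_one] at h; exact h))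
    have h2 := hpow 1 hs1'
    rw [pow_one, pow_one] at h2
    rw [← h2, ← Chars.conjChar_apply]
    exact C.Y_regular_eq (C.conjChar_mem S hC hs hθ) hθ (hs.not_dvd_orderOf S (Subgroup.mem_zpowers s))
  have hz2 : z * z = 1 := by
    conv_lhs => arg 2; rw [← hzc]
    rw [Complex.mul_conj, Complex.normSq_eq_norm_sq, hzn]; simp
  rcases mul_self_eq_one_iff.1 hz2 with hz | hz
  · exfalso
    have h3 := (C.fix_moments S hC hs (Or.inr hθ)).1
    have hall : ∀ x : E, fixChar p u₀ s (θ : G → ℂ) x = 1 := by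
      intro x
      obtain ⟨k, hk⟩ := Subgroup.mem_zpowers_iff.1 x.2
      rw [hl, show x = g₀ ^ k from Subtype.ext (by simp [g₀, hk]), map_zpow, Units.val_zpow_eq_zpow_val,
        show (l g₀ : ℂ) = 1 from hz, one_zpow]
    rw [Finset.sum_congr rfl fun x _ => hall x, Finset.sum_const, nsmul_one, Finset.card_univ] at h3
    exact Fintype.card_ne_zero (Nat.cast_eq_zero.1 h3)
  · refine ⟨?_, fun k hk => by rw [hpow k hk, hz]⟩
    rw [hz] at hze
    exact (neg_one_pow_eq_one_iff_even (by norm_num)).1 hze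

/-- Elements at which the large characters vanish are conjugate to `z`. -/
theorem isConj_of_vanish {θ : IrrCharacter G} (hθ : θ ∈ C.Y) {τ z : G} (hτ1 : τ ≠ 1)
    (hτ : ¬ p ∣ orderOf τ) (hMA : ∀ χ ∈ C.MA, (χ : G → ℂ) τ = 0)
    (hBP : ∀ χ ∈ C.BP, (χ : G → ℂ) τ = 0) (hz : z ∈ Subgroup.zpowers s) (hz1 : z ≠ 1)
    (hθz : (θ : G → ℂ) z = -1) : IsConj τ z := by
  classical
  have hθτ : (θ : G → ℂ) τ = -1 := by
    have h := C.rel θ hθ τ hτ
    rw [Finset.sum_eq_zero hMA, Finset.sum_eq_zero hBP] at h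
    linear_combination h
  have hp0 : (p : ℂ) ≠ 0 := Nat.cast_ne_zero.2 hp.out.ne_zero
  have htD := C.tD hθ
  have horth := Chars.sum_irr_map_one_mul τ
  rw [if_neg hτ1, C.sum_split, Chars.oneChar_apply, Chars.oneChar_apply, one_mul,
    Finset.sum_eq_zero fun χ hχ => by rw [hMA χ hχ, mul_zero],
    Finset.sum_eq_zero (s := C.BP) fun χ hχ => by rw [hBP χ hχ, mul_zero],
    Finset.sum_congr rfl fun χ (hχ : χ ∈ C.Y) => by
      rw [C.Y_regular_eq hχ hθ hτ, C.Y_regular_eq hχ hθ not_dvd_orderOf_one],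
    Finset.sum_congr rfl fun χ (hχ : χ ∈ C.rest) => by
      rw [← C.rest_apply S hC hs hχ hz hz1],
    Finset.sum_const, nsmul_eq_mul, C.cardY, hθτ] at horth
  have hX : ∑ χ ∈ C.rest, (χ : G → ℂ) τ * conj ((χ : G → ℂ) z) = n := by
    refine mul_left_cancel₀ hp0 ?_
    rw [Finset.mul_sum]
    have e1 : ∀ χ ∈ C.rest, (p : ℂ) * ((χ : G → ℂ) τ * conj ((χ : G → ℂ) z)) =
        (χ : G → ℂ) z * p * (χ : G → ℂ) τ := by
      intro χ hχ
      have h2 := congrArg conj (C.rest_apply S hC hs hχ hz hz1)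
      rw [map_mul, Chars.conj_map_one (Chars.isCharacter_coe χ), Complex.conj_natCast] at h2
      rw [C.rest_apply S hC hs hχ hz hz1, ← h2]
      ring
    rw [Finset.sum_congr rfl e1]
    linear_combination horth + htD
  have h := Chars.sum_irr_mul_conj τ z
  rw [C.sum_split, Chars.oneChar_apply, Chars.oneChar_apply, map_one, one_mul,
    Finset.sum_eq_zero fun χ hχ => by rw [hMA χ hχ, zero_mul],
    Finset.sum_eq_zero (s := C.BP) fun χ hχ => by rw [hBP χ hχ, zero_mul],
    Finset.sum_congr rfl fun χ (hχ : χ ∈ C.Y) => by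
      rw [C.Y_regular_eq hχ hθ hτ, C.Y_regular_eq hχ hθ (hs.not_dvd_orderOf S hz)],
    Finset.sum_const, nsmul_eq_mul, C.cardY, hX, hθτ, hθz] at h
  by_contra hc
  rw [if_neg hc] at h
  have h' : ((1 + C.t + n : ℕ) : ℂ) = ((0 : ℕ) : ℂ) := by
    push_cast
    rw [map_neg, map_one] at h
    linear_combination h
  have := Nat.cast_injective h'
  omega

end CaseTwo

end CfsgLib.Blocks.OrderP.Perfect
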