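import Cfsg.Agent.Blocks.OrderP.Perfect.Block

/-!
# The self-centralising case: `n = 1`, or the exceptional characters have degree `(1 + np)/t`
-/

set_option autoImplicit false
set_option linter.style.haveILetI false
set_option linter.unusedSectionVars false

namespace CfsgLib.Blocks.OrderP.Perfect

open Cfsg CfsgLib Finset
open scoped ComplexConjugate

universe u

variable {p : ℕ} [hp : Fact p.Prime] {G : Type u} [Group G] [Fintype G] {u₀ : G} {n e : ℕ}
  {M : Ideal AlgInt}

/-- The second configuration: besides the principal character, `|MA|` characters of degree `1 + np`,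
`|BP|` of degree `p - 1`, and `t` exceptional ones of degree `Kp - e`, with `tK = n + 1`. -/
structure CaseTwo (p : ℕ) [Fact p.Prime] (n e : ℕ) (u₀ : G) where
  t : ℕ
  K : ℕ
  MA : Finset (IrrCharacter G)
  BP : Finset (IrrCharacter G)
  Y : Finset (IrrCharacter G)
  ht : t * e = p - 1
  ht1 : 1 ≤ t
  htK : t * K = n + 1
  one_MA : Chars.oneChar G ∉ MA
  one_BP : Chars.oneChar G ∉ BP
  one_Y : Chars.oneChar G ∉ Y
  dMB : Disjoint MA BP
  dMY : Disjoint MA Y
  dBY : Disjoint BP Y
  cardX : MA.card + BP.card + 1 = e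
  cardY : Y.card = t
  degMA : ∀ χ ∈ MA, charDegree (χ : G → ℂ) = 1 + n * p
  valMA : ∀ χ ∈ MA, ∀ i : ZMod p, i ≠ 0 → (χ : G → ℂ) (upow u₀ i) = 1
  degBP : ∀ χ ∈ BP, charDegree (χ : G → ℂ) = p - 1
  valBP : ∀ χ ∈ BP, ∀ i : ZMod p, i ≠ 0 → (χ : G → ℂ) (upow u₀ i) = -1
  degY : ∀ θ ∈ Y, charDegree (θ : G → ℂ) + e = K * p
  sumY : ∀ θ ∈ Y, ∑ i ∈ Finset.univ.erase (0 : ZMod p), (θ : G → ℂ) (upow u₀ i) = (e : ℂ)
  other : ∀ χ, χ ≠ Chars.oneChar G → χ ∉ MA → χ ∉ BP → χ ∉ Y →
    ∀ i : ZMod p, i ≠ 0 → (χ : G → ℂ) (upow u₀ i) = 0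
  rel : ∀ θ ∈ Y, ∀ g : G, ¬ p ∣ orderOf g →
    1 + ∑ χ ∈ MA, (χ : G → ℂ) g + (θ : G → ℂ) g = ∑ χ ∈ BP, (χ : G → ℂ) g

theorem Setup.fusion (S : Setup p n e u₀) : ∀ i j : ZMod p, i ≠ 0 → j ≠ 0 →
    (IsConj (upow u₀ i) (upow u₀ j) ↔ (j / i) ^ e = 1) :=
  (exists_local_data S.hu S.hidx S.he).2.2.1

namespace Blk

variable (B : Blk p e u₀ M)

theorem block_eq [M.IsMaximal] :
    (principalBlock M G).toFinite.toFinset = B.X.disjUnion B.Y B.disj := by
  ext χ
  rw [Set.Finite.mem_toFinset, B.mem_iff, Finset.mem_disjUnion]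

/-- The squares of the exceptional values. -/
theorem sum_Y_sq (S : Setup p n e u₀) (hM : IsPModular p M) {i : ZMod p} (hi : i ≠ 0) :
    ∑ θ ∈ B.Y, (θ : G → ℂ) (upow u₀ i) * (θ : G → ℂ) (upow u₀ (-i)) = (p : ℂ) - e := by
  classical
  have := isMaximal_of_isPModular hM
  have h := sum_block_columns hM S.hu S.hidx S.fusion i i hi hi
  rw [if_pos (by rw [div_self hi, mem_rootSet, one_pow]), B.block_eq, Finset.sum_disjUnion,
    Finset.sum_congr rfl fun χ hχ => by
      rw [B.valX χ hχ i hi, B.valX χ hχ (-i) (neg_ne_zero.2 hi), ← Int.cast_mul,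
        show B.εX χ * B.εX χ = 1 by rcases B.sign χ hχ with h | h <;> simp [h]]] at h
  rw [Finset.sum_const, nsmul_eq_mul, B.cardX] at h
  push_cast at h
  linear_combination h

/-- The sum of an exceptional character over the nontrivial powers of `u₀`. -/
theorem sum_powers_Y (S : Setup p n e u₀) (hM : IsPModular p M) {θ : IrrCharacter G}
    (hθ : θ ∈ B.Y) :
    ∑ i ∈ Finset.univ.erase (0 : ZMod p), (θ : G → ℂ) (upow u₀ i) = -(B.ε : ℂ) * (e : ℂ) := by
  classical
  have := isMaximal_of_isPModular hM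
  let Q : IrrCharacter G → ℂ := fun χ => ∑ i ∈ Finset.univ.erase (0 : ZMod p), (χ : G → ℂ) (upow u₀ i)
  have hint : ∀ χ : IrrCharacter G, ∃ z : ℤ, Q χ = z := by
    intro χ
    obtain ⟨D, m₀, -, hD0, -, hval⟩ := exists_int_colD S.hu (Chars.isCharacter_coe χ)
    refine ⟨-∑ j, D j, ?_⟩
    show ∑ i ∈ Finset.univ.erase (0 : ZMod p), (χ : G → ℂ) (upow u₀ i) = _
    rw [Finset.sum_congr rfl fun i hi => hval i (Finset.ne_of_mem_erase hi), Finset.sum_comm]
    push_cast
    rw [← Finset.sum_neg_distrib]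
    refine Finset.sum_congr rfl fun j _ => ?_
    rw [← Finset.mul_sum]
    rcases eq_or_ne j 0 with rfl | hj
    · simp [hD0]
    · have h := Finset.add_sum_erase Finset.univ (fun i => ech p (i * j)) (Finset.mem_univ (0 : ZMod p))
      rw [sum_ech, if_neg hj, zero_mul, AddChar.map_zero_eq_one] at h
      rw [eq_neg_of_add_eq_zero_right h, mul_neg, mul_one]
  choose z hz using hint
  have hcard : (Finset.univ.erase (0 : ZMod p)).card = p - 1 := by
    rw [Finset.card_erase_of_mem (Finset.mem_univ _), Finset.card_univ, ZMod.card]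
  have hp1 : ((p - 1 : ℕ) : ℂ) = (B.t : ℂ) * e := by rw [← B.ht]; push_cast; rfl
  have h1 : ∑ η ∈ B.Y, Q η = -(B.ε : ℂ) * ((B.t : ℂ) * e) := by
    show ∑ η ∈ B.Y, ∑ i ∈ _, _ = _
    rw [Finset.sum_comm,
      Finset.sum_congr rfl fun i hi => B.sum_Y_apply S hM (Finset.ne_of_mem_erase hi),
      Finset.sum_const, hcard, nsmul_eq_mul, hp1]
    ring
  have h2 : ∑ η ∈ B.Y, Q η * Q η = (B.t : ℂ) * e * e := by
    have hQc : ∀ η : IrrCharacter G, Q η =
        ∑ i ∈ Finset.univ.erase (0 : ZMod p), (η : G → ℂ) (upow u₀ (-i)) := fun η =>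
      Finset.sum_bij' (fun i _ => -i) (fun i _ => -i)
        (fun i hi => by simpa using hi) (fun i hi => by simpa using hi)
        (fun i _ => neg_neg i) (fun i _ => neg_neg i) (fun i _ => by rw [neg_neg])
    have htot : ∑ χ ∈ (principalBlock M G).toFinite.toFinset, Q χ * Q χ =
        ((p - 1 : ℕ) : ℂ) * ((e : ℂ) * p) := by
      have e1 : ∀ χ : IrrCharacter G, Q χ * Q χ =
          ∑ i ∈ Finset.univ.erase (0 : ZMod p), ∑ i' ∈ Finset.univ.erase (0 : ZMod p),
            (χ : G → ℂ) (upow u₀ i) * (χ : G → ℂ) (upow u₀ (-i')) := fun χ => by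
        conv_lhs => arg 2; rw [hQc]
        rw [Finset.sum_mul_sum]
      rw [Finset.sum_congr rfl fun χ _ => e1 χ, Finset.sum_comm,
        Finset.sum_congr rfl fun i hi => by
          rw [Finset.sum_comm, Finset.sum_congr rfl fun i' hi' =>
            sum_block_columns hM S.hu S.hidx S.fusion i i' (Finset.ne_of_mem_erase hi)
              (Finset.ne_of_mem_erase hi')]]
      rw [← hcard, Finset.card_eq_sum_ones (Finset.univ.erase (0 : ZMod p)), Nat.cast_sum,
        Finset.sum_mul]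
      refine Finset.sum_congr rfl fun i hi => ?_
      rw [Finset.sum_ite, Finset.sum_const_zero, add_zero, Finset.sum_const, nsmul_eq_mul,
        Nat.cast_one, one_mul]
      congr 2
      refine Eq.trans (Finset.card_bij' (fun i' _ => i' / i) (fun r _ => r * i) ?_ ?_ ?_ ?_)
        (card_rootSet S.dvd)
      · intro a ha
        exact (Finset.mem_filter.1 ha).2
      · intro r hr
        have hi0 := Finset.ne_of_mem_erase hi
        have hr0 : r ≠ 0 := fun h => zero_notMem_rootSet S.e_pos (h ▸ hr)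
        simp only [Finset.mem_filter, Finset.mem_erase, Finset.mem_univ, and_true]
        exact ⟨mul_ne_zero hr0 hi0, by rwa [mul_div_assoc, div_self hi0, mul_one]⟩
      · intro a _
        exact div_mul_cancel₀ a (Finset.ne_of_mem_erase hi)
      · intro r _
        show r * i / i = r
        rw [mul_div_assoc, div_self (Finset.ne_of_mem_erase hi), mul_one]
    rw [B.block_eq, Finset.sum_disjUnion,
      Finset.sum_congr rfl fun χ (hχ : χ ∈ B.X) => show Q χ * Q χ = ((p - 1 : ℕ) : ℂ) ^ 2 from by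
        show (∑ i ∈ _, _) * (∑ i ∈ _, _) = _
        rw [Finset.sum_congr rfl fun i hi => B.valX χ hχ i (Finset.ne_of_mem_erase hi),
          Finset.sum_const, hcard, nsmul_eq_mul]
        rcases B.sign χ hχ with h | h <;> rw [h] <;> push_cast <;> ring,
      Finset.sum_const, nsmul_eq_mul, B.cardX] at htot
    have hp2 : (p : ℂ) = (B.t : ℂ) * e + 1 := by
      rw [← hp1, Nat.cast_sub hp.out.one_lt.le]; push_cast; ring
    rw [hp1, hp2] at htot
    linear_combination htot
  have h3 : ∑ η ∈ B.Y, (z η + B.ε * e) ^ 2 = 0 := by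
    refine Int.cast_injective (α := ℂ) ?_
    push_cast
    simp only [← hz]
    have : ∀ η, (Q η + (B.ε : ℂ) * e) ^ 2 = Q η * Q η + 2 * ((B.ε : ℂ) * e) * Q η + (e : ℂ) ^ 2 := by
      intro η
      have hε2 : (B.ε : ℂ) ^ 2 = 1 := by rcases B.hε with h | h <;> simp [h]
      linear_combination (e : ℂ) ^ 2 * hε2
    simp only [this, Finset.sum_add_distrib, ← Finset.mul_sum, h1, h2, Finset.sum_const,
      nsmul_eq_mul, B.cardY]
    have hε2 : (B.ε : ℂ) ^ 2 = 1 := by rcases B.hε with h | h <;> simp [h]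
    linear_combination (-2 * (B.t : ℂ) * (e : ℂ) ^ 2) * hε2
  have h4 := (Finset.sum_eq_zero_iff_of_nonneg fun η _ => sq_nonneg _).1 h3 θ hθ
  rw [sq_eq_zero_iff] at h4
  show Q θ = _
  rw [hz, show z θ = -(B.ε * e) by linarith]
  push_cast
  ring

end Blk

/-- In the self-centralising case the characters outside the principal block vanish on the Sylow
subgroup. -/
theorem Setup.apply_eq_zero (S : Setup p n e u₀) (hM : IsPModular p M)
    (hC : Subgroup.centralizer ({u₀} : Set G) = Subgroup.zpowers u₀) {χ : IrrCharacter G}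
    (hχ : χ ∉ principalBlock M G) {i : ZMod p} (hi : i ≠ 0) : (χ : G → ℂ) (upow u₀ i) = 0 := by
  classical
  have := isMaximal_of_isPModular hM
  obtain ⟨-, -, hfus, -⟩ := exists_local_data S.hu S.hidx S.he
  have h1 := sum_block_columns hM S.hu S.hidx hfus i i hi hi
  rw [if_pos (by rw [div_self hi, mem_rootSet, one_pow])] at h1
  simp only [← conj_apply_upow S.hu] at h1
  have h2 := Chars.sum_irr_mul_conj (upow u₀ i) (upow u₀ i)
  rw [if_pos (IsConj.refl _), S.centralizer_upow hi, hC, Nat.card_zpowers, S.hu,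
    ← Finset.sum_add_sum_compl (principalBlock M G).toFinite.toFinset, h1, add_eq_left] at h2
  have h3 : ∀ ψ ∈ (principalBlock M G).toFinite.toFinsetᶜ, Complex.normSq ((ψ : G → ℂ) (upow u₀ i)) = 0 := by
    refine (Finset.sum_eq_zero_iff_of_nonneg fun ψ _ => Complex.normSq_nonneg _).1 ?_
    simp only [Complex.mul_conj] at h2
    exact_mod_cast h2
  exact Complex.normSq_eq_zero.1 (h3 χ (by simpa using hχ))

/-- The tensor argument: exceptional characters of degree `e` force `n = 1`. -/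
theorem Blk.tensor_case (B : Blk p e u₀ M) (S : Setup p n e u₀) (hM : IsPModular p M)
    (MA BP : Finset (IrrCharacter G))
    (ho1 : Chars.oneChar G ∉ MA ∧ Chars.oneChar G ∉ BP ∧ Chars.oneChar G ∉ B.Y)
    (degMA : ∀ χ ∈ MA, charDegree (χ : G → ℂ) = 1 + n * p)
    (valMA : ∀ χ ∈ MA, ∀ i : ZMod p, i ≠ 0 → (χ : G → ℂ) (upow u₀ i) = 1)
    (valBP : ∀ χ ∈ BP, ∀ i : ZMod p, i ≠ 0 → (χ : G → ℂ) (upow u₀ i) = -1)
    (hoth : ∀ χ, χ ≠ Chars.oneChar G → χ ∉ MA → χ ∉ BP → χ ∉ B.Y →
      ∀ i : ZMod p, i ≠ 0 → (χ : G → ℂ) (upow u₀ i) = 0)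
    (hε : B.ε = 1) (ht : B.t ≠ 1) {θ : IrrCharacter G} (hθ : θ ∈ B.Y)
    (hd : charDegree (θ : G → ℂ) = e) : n = 1 ∧ 2 * e + 1 = p := by
  classical
  have hn := S.n_pos
  have he := S.two_le_e
  set o := Chars.oneChar G with ho
  set M₀ := 1 + n * p with hM₀
  have hpte : (p : ℤ) = (B.t : ℤ) * e + 1 := by
    have h2 := hp.out.two_le
    have h3 := B.ht
    have h4 : p = B.t * e + 1 := by omega
    exact_mod_cast h4
  let F : G → ℂ := fun g => ∑ η ∈ B.Y, (η : G → ℂ) g * conj ((η : G → ℂ) g)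
  have hFc : IsCharacter G F := by
    have h := Chars.isCharacter_sum B.Y
      (fun η : IrrCharacter G => (η : G → ℂ) * fun g => conj ((η : G → ℂ) g)) fun η _ =>
      Chars.isCharacter_mul (Chars.isCharacter_coe η)
        (Chars.isCharacter_conj (Chars.isCharacter_coe η))
    convert h using 1
    funext g
    simp [F]
  obtain ⟨c, hcF, hc⟩ := Chars.exists_nat_coeff hFc
  have hF_app : ∀ g, F g = ∑ χ : IrrCharacter G, (c χ : ℂ) * (χ : G → ℂ) g := fun g => by
    rw [congrFun hcF g, Finset.sum_apply]; rfl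
  have hc1 : (c o : ℂ) = (B.t : ℂ) := by
    rw [← hc o]
    have hcl : ∀ η ∈ B.Y, classInner (η : G → ℂ) (η : G → ℂ) = 1 := fun η _ => Chars.classInner_self η
    rw [← mul_one (B.t : ℂ), ← B.cardY, ← nsmul_eq_mul, ← Finset.sum_const,
      ← Finset.sum_congr rfl hcl]
    simp only [classInner, F, Finset.mul_sum, ho, Chars.oneChar_apply, map_one,
      mul_one]
    rw [Finset.sum_comm]
  set a' : ℕ := ∑ χ ∈ MA, c χ
  -- at the powers
  have hA : ((p : ℤ) - 1) * ((p : ℤ) - e - B.t) ≤ ((p : ℤ) - 1) * a' := by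
    have hL : ∑ i ∈ Finset.univ.erase (0 : ZMod p), F (upow u₀ i) =
        ((p : ℂ) - 1) * ((p : ℂ) - e) := by
      rw [Finset.sum_congr rfl fun i hi => show F (upow u₀ i) = (p : ℂ) - e from by
        rw [← B.sum_Y_sq S hM (Finset.ne_of_mem_erase hi)]
        exact Finset.sum_congr rfl fun η _ => by rw [conj_apply_upow S.hu],
        Finset.sum_const, Finset.card_erase_of_mem (Finset.mem_univ _), Finset.card_univ,
        ZMod.card, nsmul_eq_mul, Nat.cast_sub hp.out.one_lt.le]
      push_cast; ring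
    let q : IrrCharacter G → ℤ := fun χ =>
      if χ = o ∨ χ ∈ MA then ((p : ℤ) - 1) else if χ ∈ BP then -((p : ℤ) - 1)
        else if χ ∈ B.Y then -(e : ℤ) else 0
    have hq : ∀ χ : IrrCharacter G,
        ∑ i ∈ Finset.univ.erase (0 : ZMod p), (χ : G → ℂ) (upow u₀ i) = (q χ : ℂ) := by
      intro χ
      have hc' : ∀ v : ℂ, (∀ i : ZMod p, i ≠ 0 → (χ : G → ℂ) (upow u₀ i) = v) →
          ∑ i ∈ Finset.univ.erase (0 : ZMod p), (χ : G → ℂ) (upow u₀ i) = ((p : ℂ) - 1) * v := by
        intro v hv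
        rw [Finset.sum_congr rfl fun i hi => hv i (Finset.ne_of_mem_erase hi), Finset.sum_const,
          Finset.card_erase_of_mem (Finset.mem_univ _), Finset.card_univ, ZMod.card, nsmul_eq_mul,
          Nat.cast_sub hp.out.one_lt.le]
        push_cast; ring
      simp only [q]
      split_ifs with h1 h2 h3
      · rcases h1 with h1 | h1
        · rw [hc' 1 fun i _ => by rw [h1, ho, Chars.oneChar_apply]]; push_cast; ring
        · rw [hc' 1 (valMA χ h1)]; push_cast; ring
      · rw [hc' (-1) (valBP χ h2)]; push_cast; ring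
      · rw [B.sum_powers_Y S hM h3, hε]; push_cast; ring
      · rw [not_or] at h1
        rw [hc' 0 (hoth χ h1.1 h1.2 h2 h3)]; simp
    have hR : ((p : ℤ) - 1) * ((p : ℤ) - e) = ∑ χ, (c χ : ℤ) * q χ := by
      refine Int.cast_injective (α := ℂ) ?_
      push_cast
      rw [← hL]
      simp only [hF_app, ← hq, Finset.mul_sum]
      rw [Finset.sum_comm]
    have hle : ∑ χ, (c χ : ℤ) * q χ ≤ ((p : ℤ) - 1) * B.t + ((p : ℤ) - 1) * a' := by
      have hp1 : (0 : ℤ) ≤ (p : ℤ) - 1 := by have := hp.out.two_le; omega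
      have hb : ∀ χ, (c χ : ℤ) * q χ ≤
          (if χ = o then ((p : ℤ) - 1) * c χ else 0) + (if χ ∈ MA then ((p : ℤ) - 1) * c χ else 0) := by
        intro χ
        have h0 : (0 : ℤ) ≤ c χ := Int.natCast_nonneg _
        have h0' : (0 : ℤ) ≤ e := Int.natCast_nonneg _
        simp only [q]
        by_cases h1 : χ = o
        · rw [if_pos (Or.inl h1), if_pos h1, if_neg (h1 ▸ ho1.1)]; linarith
        by_cases h2 : χ ∈ MA
        · rw [if_pos (Or.inr h2), if_neg h1, if_pos h2]; linarith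
        rw [if_neg (by tauto), if_neg h1, if_neg h2]
        split_ifs <;> nlinarith
      refine (Finset.sum_le_sum fun χ _ => hb χ).trans ?_
      have hco : c o = B.t := Nat.cast_injective hc1
      rw [Finset.sum_add_distrib, Finset.sum_ite_eq', if_pos (Finset.mem_univ _), hco,
        Finset.sum_ite_mem, Finset.univ_inter, ← Finset.mul_sum, Nat.cast_sum]
    linarith
  -- at one
  have hB : B.t + a' * M₀ ≤ B.t * (e * e) := by
    have h1 : ((B.t * (e * e) : ℕ) : ℂ) = ((∑ χ, c χ * charDegree (χ : G → ℂ) : ℕ) : ℂ) := by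
      have hF1 : F 1 = ((B.t * (e * e) : ℕ) : ℂ) := by
        show ∑ η ∈ B.Y, _ = _
        rw [Finset.sum_congr rfl fun η hη => by
          rw [Chars.conj_map_one (Chars.isCharacter_coe η), ← Chars.coe_charDegree,
            B.deg_Y_eq hη hθ, hd], Finset.sum_const, B.cardY, nsmul_eq_mul]
        push_cast; rfl
      rw [← hF1, hF_app]
      push_cast
      exact Finset.sum_congr rfl fun χ _ => by rw [Chars.coe_charDegree]
    rw [Nat.cast_injective h1]
    have h2 : ∑ χ ∈ insert o MA, c χ * charDegree (χ : G → ℂ) = B.t + a' * M₀ := by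
      rw [Finset.sum_insert ho1.1, Nat.cast_injective hc1,
        show charDegree (o : G → ℂ) = 1 from Chars.charDegree_eq_of_map_one (by simp [ho]),
        mul_one, Finset.sum_mul]
      exact congrArg _ (Finset.sum_congr rfl fun χ hχ => by rw [degMA χ hχ])
    rw [← h2]
    exact Finset.sum_le_univ_sum_of_nonneg fun _ => Nat.zero_le _
  have hA' : (p : ℤ) - e - B.t ≤ a' :=
    le_of_mul_le_mul_left hA (by have := hp.out.two_le; omega)
  have hB' : (B.t : ℤ) + a' * (1 + n * p) ≤ B.t * (e * e) := by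
    rw [hM₀] at hB; exact_mod_cast hB
  have ht2 : (2 : ℤ) ≤ B.t := by have := B.t_pos; omega
  have he2 : (2 : ℤ) ≤ e := by exact_mod_cast he
  have hn1 : (1 : ℤ) ≤ n := by exact_mod_cast hn
  have hp0 : (0 : ℤ) ≤ p := Int.natCast_nonneg _
  have h1 : ((p : ℤ) - e - B.t) * (1 + n * p) ≤ B.t * (e * e - 1) := by nlinarith
  rw [hpte] at h1
  have h3 : ((B.t : ℤ) - 1) * (1 + n * ((B.t : ℤ) * e + 1)) ≤ B.t * (e + 1) := by
    refine le_of_mul_le_mul_left (a := (e : ℤ) - 1) ?_ (by linarith)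
    nlinarith
  have ht2' : (B.t : ℤ) = 2 := by
    by_contra h
    have ht3 : (3 : ℤ) ≤ B.t := by omega
    have h4 : (1 : ℤ) + ((B.t : ℤ) * e + 1) ≤ 1 + n * ((B.t : ℤ) * e + 1) := by nlinarith
    nlinarith
  rw [ht2'] at h3
  have hn1' : n = 1 := by
    by_contra h
    have : (2 : ℤ) ≤ n := by omega
    nlinarith
  refine ⟨hn1', ?_⟩
  rw [ht2'] at hpte
  omega

/-- **The split.** -/
theorem Setup.split (S : Setup p n e u₀)
    (hC : Subgroup.centralizer ({u₀} : Set G) = Subgroup.zpowers u₀) (hF : ¬ CountForm n p) :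
    (n = 1 ∧ 2 * e + 1 = p) ∨ Nonempty (CaseTwo p n e u₀) := by
  classical
  obtain ⟨M, hM⟩ := exists_isPModular p hp.out
  have := isMaximal_of_isPModular hM
  obtain ⟨B⟩ := S.exists_blk (M := M) hM
  have hn := S.n_pos
  have he := S.two_le_e
  set o := Chars.oneChar G with ho
  obtain ⟨θ, hθ⟩ := B.Y_nonempty
  set f := charDegree (θ : G → ℂ) with hf
  have hsum := B.deg_Y hθ
  rw [← Finset.add_sum_erase _ _ B.one_mem, B.εX_one,
    show charDegree (o : G → ℂ) = 1 from Chars.charDegree_eq_of_map_one (by simp [ho]),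
    Nat.cast_one, one_mul, ← hf] at hsum
  have hM2 : 2 ≤ 1 + n * p := by
    have := Nat.mul_pos hn hp.out.pos
    omega
  set M₀ := 1 + n * p with hM₀
  have hcardE : (B.X.erase o).card = e - 1 := by rw [Finset.card_erase_of_mem B.one_mem, B.cardX]
  have hterm : ∀ χ ∈ B.X.erase o, B.εX χ * (charDegree (χ : G → ℂ) : ℤ) ≤ (M₀ : ℤ) := by
    intro χ hχ
    obtain ⟨h1, h2⟩ := Finset.mem_erase.1 hχ
    rcases B.sign χ h2 with h | h
    · rw [h, one_mul, (B.deg_X_pos S hF h2 h).resolve_left h1]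
    · rw [h]
      have : (0 : ℤ) ≤ (charDegree (χ : G → ℂ) : ℤ) := Int.natCast_nonneg _
      have : (0 : ℤ) ≤ (M₀ : ℤ) := Int.natCast_nonneg _
      linarith
  have heM : ((e * M₀ : ℕ) : ℤ) = (e : ℤ) * M₀ := by push_cast; rfl
  have he' : ((e - 1 : ℕ) : ℤ) = (e : ℤ) - 1 := by rw [Nat.cast_sub (by omega)]; simp
  have hW : ∑ χ ∈ B.X.erase o, B.εX χ * (charDegree (χ : G → ℂ) : ℤ) ≤ ((e : ℤ) - 1) * M₀ := by
    refine (Finset.sum_le_card_nsmul _ _ _ hterm).trans ?_
    rw [hcardE, nsmul_eq_mul, he']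
  -- no character of degree `eM` with sign `-`
  have hneg : ∀ χ ∈ B.X, B.εX χ = -1 → charDegree (χ : G → ℂ) = p - 1 := by
    intro χ hχ hs
    refine (B.deg_X_neg S hF hχ hs).resolve_right fun hd => ?_
    have hχo : χ ≠ o := fun h => by rw [h, B.εX_one] at hs; norm_num at hs
    have hmem : χ ∈ B.X.erase o := Finset.mem_erase.2 ⟨hχo, hχ⟩
    have h1 : ∑ ψ ∈ (B.X.erase o).erase χ, B.εX ψ * (charDegree (ψ : G → ℂ) : ℤ) ≤
        ((e : ℤ) - 2) * M₀ := by
      refine (Finset.sum_le_card_nsmul _ _ _ fun ψ hψ => hterm ψ (Finset.mem_of_mem_erase hψ)).trans ?_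
      rw [Finset.card_erase_of_mem hmem, hcardE, nsmul_eq_mul, show e - 1 - 1 = e - 2 by omega,
        Nat.cast_sub (by omega)]
      simp
    rw [← Finset.add_sum_erase _ _ hmem, hs, hd.2, heM] at hsum
    have hlow : -(M₀ : ℤ) ≤ B.ε * f := by
      rcases B.hε with h | h
      · rw [h]
        have : (0 : ℤ) ≤ (f : ℤ) := Int.natCast_nonneg _
        have : (0 : ℤ) ≤ (M₀ : ℤ) := Int.natCast_nonneg _
        linarith
      · have h' := B.deg_Y_neg S hM hF hθ h
        rw [hd.1, one_mul] at h'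
        have h'' : (f : ℤ) = M₀ := by rw [hf, h', hM₀]
        rw [h]
        linarith
    have : (2 : ℤ) ≤ M₀ := by exact_mod_cast hM2
    nlinarith
  set MA := (B.X.erase o).filter (fun χ => B.εX χ = 1) with hMA
  set BP := (B.X.erase o).filter (fun χ => ¬ B.εX χ = 1) with hBP
  have hcard : MA.card + BP.card = e - 1 := by
    rw [hMA, hBP, Finset.card_filter_add_card_filter_not, hcardE]
  have degMA : ∀ χ ∈ MA, charDegree (χ : G → ℂ) = M₀ := fun χ hχ => by
    obtain ⟨h1, h2⟩ := Finset.mem_filter.1 hχ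
    obtain ⟨h3, h4⟩ := Finset.mem_erase.1 h1
    exact (B.deg_X_pos S hF h4 h2).resolve_left h3
  have valMA : ∀ χ ∈ MA, ∀ i : ZMod p, i ≠ 0 → (χ : G → ℂ) (upow u₀ i) = 1 := fun χ hχ i hi => by
    obtain ⟨h1, h2⟩ := Finset.mem_filter.1 hχ
    rw [B.valX χ (Finset.mem_of_mem_erase h1) i hi, h2, Int.cast_one]
  have hBPs : ∀ χ ∈ BP, B.εX χ = -1 := fun χ hχ => by
    obtain ⟨h1, h2⟩ := Finset.mem_filter.1 hχ
    exact (B.sign χ (Finset.mem_of_mem_erase h1)).resolve_left h2
  have degBP : ∀ χ ∈ BP, charDegree (χ : G → ℂ) = p - 1 := fun χ hχ =>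
    hneg χ (Finset.mem_of_mem_erase (Finset.mem_filter.1 hχ).1) (hBPs χ hχ)
  have valBP : ∀ χ ∈ BP, ∀ i : ZMod p, i ≠ 0 → (χ : G → ℂ) (upow u₀ i) = -1 := fun χ hχ i hi => by
    rw [B.valX χ (Finset.mem_of_mem_erase (Finset.mem_filter.1 hχ).1) i hi, hBPs χ hχ, Int.cast_neg,
      Int.cast_one]
  have hXsum : ∀ g : G, ∑ χ ∈ B.X, (B.εX χ : ℂ) * (χ : G → ℂ) g =
      1 + ∑ χ ∈ MA, (χ : G → ℂ) g - ∑ χ ∈ BP, (χ : G → ℂ) g := by
    intro g
    rw [← Finset.add_sum_erase _ _ B.one_mem, B.εX_one, Chars.oneChar_apply,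
      ← Finset.sum_filter_add_sum_filter_not (B.X.erase o) (fun χ => B.εX χ = 1),
      ← hMA, ← hBP, Finset.sum_congr rfl fun χ hχ => by rw [(Finset.mem_filter.1 hχ).2],
      Finset.sum_congr rfl fun χ (hχ : χ ∈ BP) => by rw [hBPs χ hχ]]
    push_cast
    simp only [one_mul, neg_one_mul, Finset.sum_neg_distrib]
    ring
  have hoth : ∀ χ, χ ≠ o → χ ∉ MA → χ ∉ BP → χ ∉ B.Y →
      ∀ i : ZMod p, i ≠ 0 → (χ : G → ℂ) (upow u₀ i) = 0 := by
    intro χ h1 h2 h3 h4 i hi
    refine S.apply_eq_zero hM hC (fun hB => ?_) hi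
    rcases (B.mem_iff χ).1 hB with h | h
    · by_cases hs : B.εX χ = 1
      · exact h2 (Finset.mem_filter.2 ⟨Finset.mem_erase.2 ⟨h1, h⟩, hs⟩)
      · exact h3 (Finset.mem_filter.2 ⟨Finset.mem_erase.2 ⟨h1, h⟩, hs⟩)
    · exact h4 h
  have hsub : ∀ {T : IrrCharacter G}, T ∈ MA ∨ T ∈ BP → T ∈ B.X := by
    rintro T (h | h) <;> exact Finset.mem_of_mem_erase (Finset.mem_filter.1 h).1
  have hdMB : Disjoint MA BP := Finset.disjoint_filter_filter_not _ _ _
  have hpte : (p : ℤ) = (B.t : ℤ) * e + 1 := by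
    have h2 := hp.out.two_le
    have h3 := B.ht
    have h4 : p = B.t * e + 1 := by omega
    exact_mod_cast h4
  have ho1 : o ∉ MA ∧ o ∉ BP ∧ o ∉ B.Y :=
    ⟨fun h => (Finset.mem_erase.1 (Finset.mem_filter.1 h).1).1 rfl,
      fun h => (Finset.mem_erase.1 (Finset.mem_filter.1 h).1).1 rfl,
      fun h => Finset.disjoint_left.1 B.disj B.one_mem h⟩
  rcases B.hε with hε | hε
  · rw [hε, one_mul] at hsum
    rcases B.deg_Y_pos S hM hF hθ hε with hd | hd
    swap
    · exfalso
      rw [← hf] at hd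
      rw [hd, heM] at hsum
      have : (2 : ℤ) ≤ M₀ := by exact_mod_cast hM2
      nlinarith
    rw [← hf] at hd
    rcases eq_or_ne B.t 1 with ht | ht
    · -- relabel: one character of degree `1 + np` becomes exceptional
      right
      have hpe : e + 1 = p := by
        have := B.ht; rw [ht, one_mul] at this; have := hp.out.two_le; omega
      have hY : B.Y = {θ} := Finset.eq_singleton_iff_unique_mem.2 ⟨hθ, fun η hη =>
        Finset.card_le_one.1 (by rw [B.cardY, ht]) η hη θ hθ⟩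
      obtain ⟨χ₀, hχ₀⟩ : MA.Nonempty := by
        by_contra hA
        rw [Finset.not_nonempty_iff_eq_empty] at hA
        have h1 := hXsum 1
        rw [← B.rel θ hθ 1 not_dvd_orderOf_one, hε, ← Chars.coe_charDegree, hA, Finset.sum_empty,
          Finset.sum_congr rfl fun χ hχ => by rw [← Chars.coe_charDegree, degBP χ hχ],
          Finset.sum_const, nsmul_eq_mul, ← hf, hd] at h1
        simp only [Int.cast_one, one_mul, add_zero] at h1
        have h2 : ((e + BP.card * (p - 1) : ℕ) : ℂ) = ((1 : ℕ) : ℂ) := by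
          push_cast
          linear_combination h1
        have := Nat.cast_injective h2
        omega
      have hne : ∀ η, η ∈ B.Y → η ∉ MA := fun η hη h =>
        Finset.disjoint_left.1 B.disj (hsub (Or.inl h)) hη
      refine ⟨⟨1, n + 1, MA.erase χ₀, insert θ BP, {χ₀}, by omega, le_rfl, one_mul _,
        fun h => ho1.1 (Finset.mem_of_mem_erase h), ?_, ?_, ?_, ?_, ?_, ?_, ?_,
        fun χ hχ => degMA χ (Finset.mem_of_mem_erase hχ),
        fun χ hχ => valMA χ (Finset.mem_of_mem_erase hχ), ?_, ?_, ?_, ?_, ?_, ?_⟩⟩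
      · rw [Finset.mem_insert, not_or]
        exact ⟨fun h => ho1.2.2 (by rw [ho, h]; exact hθ), ho1.2.1⟩
      · rw [Finset.mem_singleton]; exact fun h => ho1.1 (by rw [ho, h]; exact hχ₀)
      · rw [Finset.disjoint_insert_right]
        exact ⟨fun h => hne θ hθ (Finset.mem_of_mem_erase h),
          hdMB.mono_left (Finset.erase_subset _ _)⟩
      · simp
      · rw [Finset.disjoint_singleton_right, Finset.mem_insert, not_or]
        exact ⟨fun h => hne θ hθ (h ▸ hχ₀), fun h => Finset.disjoint_left.1 hdMB hχ₀ h⟩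
      · have hθB : θ ∉ BP := fun h => Finset.disjoint_left.1 B.disj (hsub (Or.inr h)) hθ
        have := Finset.card_pos.2 ⟨χ₀, hχ₀⟩
        rw [Finset.card_erase_of_mem hχ₀, Finset.card_insert_of_notMem hθB]
        omega
      · simp
      · intro χ hχ
        rcases Finset.mem_insert.1 hχ with rfl | h
        · rw [← hf, hd]; omega
        · exact degBP χ h
      · intro χ hχ i hi
        rcases Finset.mem_insert.1 hχ with rfl | h
        · have h2 := B.sum_Y_apply S hM hi
          rw [hY, Finset.sum_singleton, hε, Int.cast_one] at h2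
          exact h2
        · exact valBP χ h i hi
      · intro η hη
        rw [Finset.mem_singleton.1 hη, degMA χ₀ hχ₀, hM₀]
        rw [← hpe]; ring
      · intro η hη
        rw [Finset.mem_singleton.1 hη,
          Finset.sum_congr rfl fun i hi => valMA χ₀ hχ₀ i (Finset.ne_of_mem_erase hi),
          Finset.sum_const, Finset.card_erase_of_mem (Finset.mem_univ _), Finset.card_univ,
          ZMod.card, nsmul_one, show p - 1 = e by omega]
      · intro χ h1 h2 h3 h4
        rw [Finset.mem_singleton] at h4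
        rw [Finset.mem_insert, not_or] at h3
        exact hoth χ h1 (fun h => h2 (Finset.mem_erase.2 ⟨h4, h⟩)) h3.2
          (by rw [hY, Finset.mem_singleton]; exact h3.1)
      · intro η hη g hg
        rw [Finset.mem_singleton.1 hη, Finset.sum_insert
          (fun h => Finset.disjoint_left.1 B.disj (hsub (Or.inr h)) hθ)]
        have h1 := B.rel θ hθ g hg
        rw [hε, hXsum g, ← Finset.add_sum_erase MA _ hχ₀, Int.cast_one, one_mul] at h1
        linear_combination -h1
    · left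
      exact B.tensor_case S hM MA BP ho1 degMA valMA valBP hoth hε ht hθ hd
  · right
    have htD := B.deg_Y_neg S hM hF hθ hε
    rw [← hf] at htD
    obtain ⟨K, hK⟩ : p ∣ f + e := by
      rw [← ZMod.natCast_eq_zero_iff, Nat.cast_add, hf, B.congrY θ hθ, hε]
      simp
    have htK : B.t * K = n + 1 := by
      refine Nat.eq_of_mul_eq_mul_left hp.out.pos ?_
      have h2 := B.ht
      calc p * (B.t * K) = B.t * (f + e) := by rw [hK]; ring
        _ = B.t * f + B.t * e := by ring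
        _ = _ := by
          rw [htD, h2]
          have := hp.out.two_le
          rw [mul_add, mul_one, mul_comm p n]
          omega
    refine ⟨⟨B.t, K, MA, BP, B.Y, B.ht, B.t_pos, htK, ho1.1, ho1.2.1, ho1.2.2, hdMB, ?_, ?_,
      by omega, B.cardY, degMA, valMA, degBP, valBP, ?_, ?_, hoth, ?_⟩⟩
    · exact Finset.disjoint_left.2 fun χ h h' => Finset.disjoint_left.1 B.disj (hsub (Or.inl h)) h'
    · exact Finset.disjoint_left.2 fun χ h h' => Finset.disjoint_left.1 B.disj (hsub (Or.inr h)) h'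
    · intro η hη
      rw [B.deg_Y_eq hη hθ, ← hf, hK, mul_comm]
    · intro η hη
      rw [B.sum_powers_Y S hM hη, hε]
      simp
    · intro η hη g hg
      have h1 := B.rel η hη g hg
      rw [hε, hXsum g] at h1
      push_cast at h1
      linear_combination -h1

end CfsgLib.Blocks.OrderP.Perfect
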